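import Mathlib
import Cfsg.Agent.H375.CovTwo.Spec

/-!
# The algebra generated by an invertible linear map (helper375)

`F` a finite field of characteristic two with `q` elements, `s` an invertible linear map of `U`.

* `mem_alg_of_cyclic` : if `U` is a cyclic `F[s]`-module, everything commuting with `s` is in `F[s]`;
* `pow_eq_one_of_cyclic` : `g` commutes with `s`, `s ^ (q ^ k - 1) = 1` : `g ^ (q ^ k - 1) = 1`;
* `pow_eq_one_of_unitary` : `g`, `s` isometries, `s ^ (q ^ j + 1) = 1` : `g ^ (q ^ j + 1) = 1`;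
* `exists_cyclic_of_odd` : the odd case.
-/

set_option autoImplicit false
set_option linter.unusedVariables false
set_option linter.unusedSectionVars false

namespace Cfsg.Agent.H375.Odd

open Module Finset Polynomial

variable {F : Type*} [Field F] {U : Type*} [AddCommGroup U] [Module F U]

/-- The algebra generated by `s`. -/
abbrev AA (s : U ≃ₗ[F] U) : Subalgebra F (Module.End F U) := Algebra.adjoin F {(s : U →ₗ[F] U)}

variable {s : U ≃ₗ[F] U}

theorem self_mem : (s : U →ₗ[F] U) ∈ AA s := Algebra.self_mem_adjoin_singleton _ _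

theorem alg_comm {a b : Module.End F U} (ha : a ∈ AA s) (hb : b ∈ AA s) : a * b = b * a := by
  have h := Algebra.isMulCommutative_adjoin_singleton F (s : U →ₗ[F] U)
  have := h.is_comm.comm (⟨a, ha⟩ : AA s) ⟨b, hb⟩
  exact congrArg Subtype.val this

theorem alg_comm_of {a g : Module.End F U} (ha : a ∈ AA s) (hg : ∀ v, g (s v) = s (g v)) : a * g = g * a := by
  induction ha using Algebra.adjoin_induction with
  | mem x hx =>
    rw [Set.mem_singleton_iff] at hx
    subst hx
    exact LinearMap.ext fun v => (hg v).symm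
  | algebraMap r => exact Algebra.commutes r g
  | add x y _ _ hx hy => rw [add_mul, mul_add, hx, hy]
  | mul x y _ _ hx hy => rw [mul_assoc, hy, ← mul_assoc, hx, mul_assoc]

theorem alg_inv {W : Submodule F U} (hW : ∀ w ∈ W, s w ∈ W) {a : Module.End F U} (ha : a ∈ AA s) :
    ∀ w ∈ W, a w ∈ W := by
  induction ha using Algebra.adjoin_induction with
  | mem x hx =>
    rw [Set.mem_singleton_iff] at hx
    subst hx
    exact hW
  | algebraMap r => intro w hw; exact W.smul_mem r hw
  | add x y _ _ hx hy => intro w hw; exact W.add_mem (hx w hw) (hy w hw)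
  | mul x y _ _ hx hy => intro w hw; exact hx _ (hy w hw)

theorem coe_pow (j : ℕ) : ((s ^ j : U ≃ₗ[F] U) : Module.End F U) = (s : Module.End F U) ^ j := by
  induction j with
  | zero => rfl
  | succ j ih => rw [pow_succ, pow_succ, ← ih]; rfl

/-- `U` is a cyclic `F[s]`-module. -/
def Cyc (s : U ≃ₗ[F] U) : Prop := ∃ w : U, ∀ u, ∃ a ∈ AA s, a w = u

theorem mem_alg_of_cyclic (hc : Cyc s) {g : Module.End F U} (hg : ∀ v, g (s v) = s (g v)) : g ∈ AA s := by
  obtain ⟨w, hw⟩ := hc
  obtain ⟨a, ha, haw⟩ := hw (g w)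
  have : g = a := by
    apply LinearMap.ext
    intro u
    obtain ⟨b, hb, rfl⟩ := hw u
    have h1 := LinearMap.congr_fun (alg_comm_of hb hg) w
    have h2 := LinearMap.congr_fun (alg_comm ha hb) w
    calc g (b w) = b (g w) := h1.symm
      _ = b (a w) := by rw [haw]
      _ = a (b w) := h2.symm
  rw [this]
  exact ha

section Frob

variable [Fintype F] [CharP F 2]

theorem exists_card : ∃ f : ℕ, 0 < f ∧ Fintype.card F = 2 ^ f := by
  obtain ⟨f, -, hf⟩ := FiniteField.card F 2
  exact ⟨f, f.pos, hf⟩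

theorem pow_card_pow (k : ℕ) (c : F) : c ^ (Fintype.card F ^ k) = c := by
  induction k with
  | zero => rw [pow_zero, pow_one]
  | succ k ih => rw [pow_succ, pow_mul, ih, FiniteField.pow_card]

theorem charP_end [Nontrivial U] : CharP (Module.End F U) 2 :=
  charP_of_injective_algebraMap (algebraMap F (Module.End F U)).injective 2

theorem add_pow_Q [Nontrivial U] (k : ℕ) {a b : Module.End F U} (h : a * b = b * a) :
    (a + b) ^ (Fintype.card F ^ k) = a ^ (Fintype.card F ^ k) + b ^ (Fintype.card F ^ k) := by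
  obtain ⟨f, -, hf⟩ := exists_card (F := F)
  have := charP_end (F := F) (U := U)
  have : Fact (Nat.Prime 2) := ⟨Nat.prime_two⟩
  rw [hf, ← pow_mul]
  exact add_pow_char_pow_of_commute 2 _ (show Commute a b from h)

/-- The Frobenius power fixes `F[s]`. -/
theorem pow_Q_eq [Nontrivial U] {k : ℕ} (hs : s ^ (Fintype.card F ^ k - 1) = 1) {a : Module.End F U} (ha : a ∈ AA s) :
    a ^ (Fintype.card F ^ k) = a := by
  have hpos : 0 < Fintype.card F ^ k := pow_pos Fintype.card_pos k
  induction ha using Algebra.adjoin_induction with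
  | mem x hx =>
    rw [Set.mem_singleton_iff] at hx
    subst hx
    rw [← coe_pow, ← Nat.sub_add_cancel (show 1 ≤ Fintype.card F ^ k from hpos), pow_succ, hs, one_mul]
  | algebraMap r => rw [← map_pow, pow_card_pow]
  | add x y hx' hy' hx hy => rw [add_pow_Q k (alg_comm hx' hy'), hx, hy]
  | mul x y hx' hy' hx hy =>
    rw [(show Commute x y from alg_comm hx' hy').mul_pow, hx, hy]

theorem pow_eq_one_of_cyclic {k : ℕ} (hs : s ^ (Fintype.card F ^ k - 1) = 1) (hc : Cyc s) {g : U ≃ₗ[F] U}
    (hg : ∀ v, g (s v) = s (g v)) : g ^ (Fintype.card F ^ k - 1) = 1 := by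
  rcases subsingleton_or_nontrivial U with h | h
  · exact LinearEquiv.ext fun v => Subsingleton.elim _ _
  have hpos : 0 < Fintype.card F ^ k := pow_pos Fintype.card_pos k
  have h1 := pow_Q_eq hs (mem_alg_of_cyclic hc (g := (g : U →ₗ[F] U)) hg)
  rw [← coe_pow] at h1
  have h2 : g ^ (Fintype.card F ^ k) = g := LinearEquiv.toLinearMap_injective h1
  rw [← Nat.sub_add_cancel (show 1 ≤ Fintype.card F ^ k from hpos), pow_succ] at h2
  exact mul_eq_right.1 h2

/-- The adjoint of an element of `F[s]`. -/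
theorem adj_Q [Nontrivial U] {β : U →ₗ[F] U →ₗ[F] F} {j : ℕ} (hs : s ^ (Fintype.card F ^ j + 1) = 1)
    (hβ : ∀ u v, β (s u) (s v) = β u v) {a : Module.End F U} (ha : a ∈ AA s) :
    ∀ u v, β (a u) v = β u ((a ^ (Fintype.card F ^ j)) v) := by
  induction ha using Algebra.adjoin_induction with
  | mem x hx =>
    rw [Set.mem_singleton_iff] at hx
    subst hx
    intro u v
    rw [← coe_pow]
    show β (s u) v = β u ((s ^ (Fintype.card F ^ j)) v)
    rw [← hβ u]
    congr 1
    have := LinearEquiv.congr_fun hs v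
    rw [pow_succ'] at this
    exact this.symm
  | algebraMap r =>
    intro u v
    rw [← map_pow, pow_card_pow]
    show β (r • u) v = β u (r • v)
    rw [map_smul, map_smul, LinearMap.smul_apply]
  | add x y hx' hy' hx hy =>
    intro u v
    rw [add_pow_Q j (alg_comm hx' hy')]
    show β (x u + y u) v = β u ((x ^ _) v + (y ^ _) v)
    rw [map_add, map_add, LinearMap.add_apply, hx, hy]
  | mul x y hx' hy' hx hy =>
    intro u v
    rw [alg_comm hx' hy', (show Commute y x from alg_comm hy' hx').mul_pow]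
    show β (y (x u)) v = β u ((y ^ _) ((x ^ _) v))
    rw [← Module.End.mul_apply, ← Module.End.mul_apply, ← alg_comm hx' hy']
    show β (x (y u)) v = _
    rw [hx, hy]
    rfl

theorem pow_eq_one_of_unitary {β : U →ₗ[F] U →ₗ[F] F} (hnd : ∀ v, (∀ u, β u v = 0) → v = 0) {j : ℕ}
    (hs : s ^ (Fintype.card F ^ j + 1) = 1) (hβ : ∀ u v, β (s u) (s v) = β u v) (hc : Cyc s) {g : U ≃ₗ[F] U}
    (hg : ∀ v, g (s v) = s (g v)) (hβg : ∀ u v, β (g u) (g v) = β u v) : g ^ (Fintype.card F ^ j + 1) = 1 := by
  rcases subsingleton_or_nontrivial U with h | h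
  · exact LinearEquiv.ext fun v => Subsingleton.elim _ _
  have h1 := adj_Q hs hβ (mem_alg_of_cyclic hc (g := (g : U →ₗ[F] U)) hg)
  apply LinearEquiv.ext
  intro v
  rw [← sub_eq_zero]
  apply hnd
  intro u
  rw [map_sub, sub_eq_zero]
  show β u ((g ^ (Fintype.card F ^ j + 1)) v) = β u v
  rw [← hβg u v]
  have h2 := h1 u (g v)
  rw [← coe_pow] at h2
  rw [pow_succ]
  exact h2.symm

end Frob

/-! ### Irreducible modules -/

/-- No proper invariant subspaces. -/
def Irr (s : U ≃ₗ[F] U) : Prop := Nontrivial U ∧ ∀ W : Submodule F U, (∀ w ∈ W, s w ∈ W) → W ≠ ⊥ → W = ⊤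

/-- The cyclic submodule generated by `w`. -/
def cycSub (s : U ≃ₗ[F] U) (w : U) : Submodule F U :=
  (Subalgebra.toSubmodule (AA s)).map (LinearMap.applyₗ w)

theorem mem_cycSub {w u : U} : u ∈ cycSub s w ↔ ∃ a ∈ AA s, a w = u := by
  rw [cycSub, Submodule.mem_map]
  rfl

theorem cycSub_inv (w : U) : ∀ u ∈ cycSub s w, s u ∈ cycSub s w := by
  intro u hu
  obtain ⟨a, ha, rfl⟩ := mem_cycSub.1 hu
  exact mem_cycSub.2 ⟨(s : U →ₗ[F] U) * a, (AA s).mul_mem self_mem ha, rfl⟩

theorem self_mem_cycSub (w : U) : w ∈ cycSub s w := mem_cycSub.2 ⟨1, (AA s).one_mem, rfl⟩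

theorem Irr.cyc_of (h : Irr s) {w : U} (hw : w ≠ 0) (u : U) : ∃ a ∈ AA s, a w = u := by
  have h1 := h.2 (cycSub s w) (cycSub_inv w) (fun h0 => hw (by
    have := self_mem_cycSub (s := s) w
    rw [h0] at this
    exact (Submodule.mem_bot F).1 this))
  exact mem_cycSub.1 (by rw [h1]; trivial)

theorem Irr.cyc (h : Irr s) : Cyc s := by
  have := h.1
  obtain ⟨w, hw⟩ := exists_ne (0 : U)
  exact ⟨w, h.cyc_of hw⟩

theorem Irr.injective (h : Irr s) {a : Module.End F U} (ha : a ∈ AA s) (ha0 : a ≠ 0) {v : U} (hv : a v = 0) : v = 0 := by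
  by_contra hv0
  apply ha0
  apply LinearMap.ext
  intro u
  obtain ⟨b, hb, rfl⟩ := h.cyc_of hv0 u
  have h2 := LinearMap.congr_fun (alg_comm ha hb) v
  calc a (b v) = b (a v) := h2
    _ = 0 := by rw [hv, map_zero]

theorem Irr.domain (h : Irr s) : IsDomain (AA s) := by
  have := h.1
  have hnt : Nontrivial (AA s) := by
    refine ⟨⟨0, 1, fun h0 => ?_⟩⟩
    have h1 : (0 : Module.End F U) = 1 := congrArg Subtype.val h0
    obtain ⟨w, hw⟩ := exists_ne (0 : U)
    exact hw (LinearMap.congr_fun h1 w).symm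
  have : NoZeroDivisors (AA s) := by
    refine ⟨fun {a b} hab => ?_⟩
    by_cases hb : b = 0
    · exact Or.inr hb
    left
    have hb' : (b : Module.End F U) ≠ 0 := fun h0 => hb (Subtype.ext h0)
    apply Subtype.ext
    by_contra ha
    obtain ⟨w, hw⟩ : ∃ w, (b : Module.End F U) w ≠ 0 := by
      by_contra hcon
      push Not at hcon
      exact hb' (LinearMap.ext hcon)
    apply hw
    apply h.injective a.2 ha
    exact LinearMap.congr_fun (congrArg Subtype.val hab) w
  exact NoZeroDivisors.to_isDomain _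

theorem card_le_of_pow {R : Type*} [CommRing R] [IsDomain R] [Fintype R] {Q : ℕ} (hQ : 1 < Q)
    (h : ∀ a : R, a ^ Q = a) : Fintype.card R ≤ Q := by
  classical
  have hdeg : (X ^ Q - X : R[X]).natDegree = Q := by
    rw [Polynomial.natDegree_sub_eq_left_of_natDegree_lt]
    · exact Polynomial.natDegree_X_pow Q
    · rw [Polynomial.natDegree_X_pow, Polynomial.natDegree_X]
      exact hQ
  have hp : (X ^ Q - X : R[X]) ≠ 0 := by
    intro h0
    rw [h0, Polynomial.natDegree_zero] at hdeg
    omega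
  have h2 := Polynomial.card_roots' (X ^ Q - X : R[X])
  rw [hdeg] at h2
  refine le_trans ?_ h2
  refine le_trans ?_ (Multiset.toFinset_card_le _)
  rw [← Finset.card_univ]
  apply Finset.card_le_card
  intro a _
  rw [Multiset.mem_toFinset, Polynomial.mem_roots hp, Polynomial.IsRoot.def, Polynomial.eval_sub, Polynomial.eval_pow,
    Polynomial.eval_X, h, sub_self]

/-- The commutative ring `F[s]`. -/
abbrev commRingAA (s : U ≃ₗ[F] U) : CommRing (AA s) :=
  { (inferInstance : Ring (AA s)) with
    mul_comm := fun a b => Subtype.ext (alg_comm a.2 b.2) }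

/-- The size of an irreducible module. -/
theorem Irr.card_le [Fintype F] [CharP F 2] [FiniteDimensional F U] (h : Irr s) {k : ℕ} (hk : 0 < k)
    (hs : s ^ (Fintype.card F ^ k - 1) = 1) : finrank F U ≤ k := by
  classical
  have := h.1
  have hfU : Finite U := Module.finite_of_finite F
  have hfE : Finite (Module.End F U) := Finite.of_injective (fun g : Module.End F U => (g : U → U)) DFunLike.coe_injective
  obtain ⟨w, hw⟩ := exists_ne (0 : U)
  let _ : Fintype (AA s) := Fintype.ofFinite _
  have hpow : ∀ a : AA s, a ^ (Fintype.card F ^ k) = a := fun a => by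
    apply Subtype.ext
    rw [Subalgebra.coe_pow]
    exact pow_Q_eq hs a.2
  have h1 : Fintype.card (AA s) ≤ Fintype.card F ^ k := by
    have hdom := h.domain
    exact @card_le_of_pow (AA s) (commRingAA s) hdom _ _ (Nat.one_lt_pow hk.ne' Fintype.one_lt_card) hpow
  have h3 : Fintype.card F ^ finrank F U ≤ Fintype.card (AA s) := by
    let _ : Fintype U := Fintype.ofFinite U
    rw [← Module.card_eq_pow_finrank (K := F) (V := U)]
    refine Fintype.card_le_of_surjective (fun a : AA s => (a : Module.End F U) w) ?_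
    intro u
    obtain ⟨a, ha, hau⟩ := h.cyc_of hw u
    exact ⟨⟨a, ha⟩, hau⟩
  exact (Nat.pow_le_pow_iff_right Fintype.one_lt_card).1 (h3.trans h1)

end Cfsg.Agent.H375.Odd
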