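import Mathlib
import Cfsg.Agent.H375.Odd.Alg

/-!
# Self-dual modules of odd dimension (helper375)

An irreducible polynomial of odd degree over a field of characteristic two that vanishes at `x` and at `x⁻¹` is `X - 1`;
an isometry `s` without small invariant subspaces of a space of dimension `2 m`, `m` odd, with `s ^ (q ^ m - 1) = 1` has a
cyclic vector.
-/

set_option autoImplicit false
set_option linter.unusedVariables false
set_option linter.unusedSectionVars false

namespace Cfsg.Agent.H375.Odd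

open Module Finset Polynomial

variable {F : Type*} [Field F] [CharP F 2]

/-- The reciprocal polynomial argument. -/
theorem eval_one_eq_zero {R : Type*} [Ring R] [Algebra F R] {x y : R} (hxy : x * y = 1) (hyx : y * x = 1)
    {f : F[X]} (hm : f.Monic) (hodd : Odd f.natDegree) (hmin : ∀ g : F[X], aeval x g = 0 → f ∣ g)
    (hy : aeval y f = 0) : f.eval 1 = 0 := by
  set d := f.natDegree with hd
  let g : F[X] := ∑ i ∈ range (d + 1), C (f.coeff (d - i)) * X ^ i
  have hcoeff : ∀ i, g.coeff i = if i ≤ d then f.coeff (d - i) else 0 := by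
    intro i
    show (∑ i ∈ range (d + 1), C (f.coeff (d - i)) * X ^ i).coeff i = _
    rw [finsetSum_coeff]
    simp only [coeff_C_mul_X_pow]
    rw [Finset.sum_ite_eq]
    simp only [mem_range, Nat.lt_succ_iff]
  have hcomm : Commute x y := by show x * y = y * x; rw [hxy, hyx]
  have hpow : ∀ i ≤ d, x ^ d * y ^ i = x ^ (d - i) := by
    intro i hi
    obtain ⟨k, hk⟩ := Nat.exists_eq_add_of_le hi
    rw [hk, Nat.add_sub_cancel_left, add_comm i k, pow_add, mul_assoc, ← hcomm.mul_pow, hxy, one_pow, mul_one]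
  have hgx : aeval x g = 0 := by
    have h1 : aeval x g = x ^ d * aeval y f := by
      have e0 : aeval x g = ∑ i ∈ range (d + 1), f.coeff (d - i) • x ^ i := by
        show aeval x (∑ i ∈ range (d + 1), C (f.coeff (d - i)) * X ^ i) = _
        rw [map_sum]
        refine Finset.sum_congr rfl fun i _ => ?_
        rw [map_mul, aeval_C, map_pow, aeval_X, Algebra.smul_def]
      rw [e0, aeval_eq_sum_range, Finset.mul_sum, ← hd, ← Finset.sum_range_reflect (fun i => x ^ d * f.coeff i • y ^ i)]
      refine Finset.sum_congr rfl fun i hi => ?_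
      have hi' : i ≤ d := Nat.lt_succ_iff.1 (mem_range.1 hi)
      have e1 : d + 1 - 1 - i = d - i := by omega
      have e2 : d - (d - i) = i := by omega
      rw [e1, mul_smul_comm, hpow _ (Nat.sub_le _ _), e2]
    rw [h1, hy, mul_zero]
  obtain ⟨h, hh⟩ := hmin g hgx
  have hg0 : g ≠ 0 := by
    intro h0
    have h1 := hcoeff 0
    rw [h0, coeff_zero, if_pos (Nat.zero_le _), Nat.sub_zero, hd, hm.coeff_natDegree] at h1
    exact zero_ne_one h1
  have hgd : g.natDegree ≤ d := by
    rw [natDegree_le_iff_coeff_eq_zero]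
    intro i hi
    rw [hcoeff, if_neg (not_le.2 hi)]
  have hh0 : h.natDegree = 0 := by
    have h1 : h ≠ 0 := by
      rintro rfl
      rw [mul_zero] at hh
      exact hg0 hh
    rw [hh, hm.natDegree_mul' h1] at hgd
    omega
  rw [natDegree_eq_zero] at hh0
  obtain ⟨c, rfl⟩ := hh0
  have hc1 : f.coeff 0 = c := by
    have h1 := hcoeff d
    rw [if_pos le_rfl, Nat.sub_self, hh, coeff_mul_C, hd, hm.coeff_natDegree, one_mul] at h1
    exact h1.symm
  have hc2 : c * c = 1 := by
    have h1 := hcoeff 0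
    rw [if_pos (Nat.zero_le _), Nat.sub_zero, hh, coeff_mul_C, hc1, hd, hm.coeff_natDegree] at h1
    exact h1
  have hc : c = 1 := by
    have h3 : (c - 1) ^ 2 = 0 := by
      have := CharTwo.add_self_eq_zero (R := F) (c - 1)
      linear_combination hc2 - this
    exact sub_eq_zero.1 (pow_eq_zero_iff two_ne_zero |>.1 h3)
  have hsymm : ∀ i ≤ d, f.coeff (d - i) = f.coeff i := by
    intro i hi
    have h1 := hcoeff i
    rw [if_pos hi, hh, hc, map_one, mul_one] at h1
    exact h1.symm
  rw [eval_eq_sum_range]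
  simp only [one_pow, mul_one]
  rw [← hd]
  obtain ⟨k, hk⟩ := hodd
  refine Finset.sum_involution (fun i _ => d - i) ?_ ?_ ?_ ?_
  · intro i hi
    rw [hsymm i (Nat.lt_succ_iff.1 (mem_range.1 hi))]
    exact CharTwo.add_self_eq_zero _
  · intro i hi _ h1
    have hi' : i ≤ d := Nat.lt_succ_iff.1 (mem_range.1 hi)
    omega
  · intro i hi
    rw [mem_range]
    omega
  · intro i hi
    have hi' : i ≤ d := Nat.lt_succ_iff.1 (mem_range.1 hi)
    show d - (d - i) = i
    omega

variable {U : Type*} [AddCommGroup U] [Module F U]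

/-- The restriction to an invariant subspace. -/
noncomputable def restr [FiniteDimensional F U] (s : U ≃ₗ[F] U) (W : Submodule F U) (hW : ∀ w ∈ W, s w ∈ W) : W ≃ₗ[F] W :=
  LinearEquiv.ofInjectiveEndo ((s : U →ₗ[F] U).restrict hW) (fun a b h => Subtype.ext (s.injective (congrArg Subtype.val h)))

theorem restr_coe [FiniteDimensional F U] {s : U ≃ₗ[F] U} {W : Submodule F U} (hW : ∀ w ∈ W, s w ∈ W) (w : W) :
    ((restr s W hW w : W) : U) = s w := rfl

theorem restr_pow_coe [FiniteDimensional F U] {s : U ≃ₗ[F] U} {W : Submodule F U} (hW : ∀ w ∈ W, s w ∈ W) (j : ℕ) (w : W) :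
    (((restr s W hW ^ j) w : W) : U) = (s ^ j) (w : U) := by
  induction j generalizing w with
  | zero => rfl
  | succ j ih =>
    rw [pow_succ, pow_succ]
    show (((restr s W hW ^ j) (restr s W hW w) : W) : U) = (s ^ j) (s w)
    rw [ih, restr_coe]

theorem restr_pow_eq_one [FiniteDimensional F U] {s : U ≃ₗ[F] U} {W : Submodule F U} (hW : ∀ w ∈ W, s w ∈ W) {j : ℕ}
    (h : ∀ w ∈ W, (s ^ j) w = w) : restr s W hW ^ j = 1 := by
  apply LinearEquiv.ext
  intro w
  apply Subtype.ext
  rw [restr_pow_coe, h _ w.2]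
  rfl

theorem aeval_restr [FiniteDimensional F U] {s : U ≃ₗ[F] U} {W : Submodule F U} (hW : ∀ w ∈ W, s w ∈ W) (g : F[X]) (w : W) :
    ((aeval ((restr s W hW : W ≃ₗ[F] W) : Module.End F W) g w : W) : U) = aeval (s : Module.End F U) g (w : U) := by
  rw [aeval_eq_sum_range, aeval_eq_sum_range, LinearMap.sum_apply, LinearMap.sum_apply, AddSubmonoidClass.coe_finsetSum]
  refine Finset.sum_congr rfl fun i _ => ?_
  rw [LinearMap.smul_apply, LinearMap.smul_apply, ← coe_pow, ← coe_pow]
  show g.coeff i • (((restr s W hW ^ i) w : W) : U) = _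
  rw [restr_pow_coe]
  rfl

/-- The restriction to a minimal invariant subspace. -/
theorem irr_restr [FiniteDimensional F U] {s : U ≃ₗ[F] U} {W : Submodule F U} (hW : ∀ w ∈ W, s w ∈ W) (h0 : W ≠ ⊥)
    (hmin : ∀ Y ≤ W, (∀ y ∈ Y, s y ∈ Y) → Y ≠ ⊥ → Y = W) : Irr (restr s W hW) := by
  refine ⟨(Submodule.nontrivial_iff_ne_bot).2 h0, fun Y hY hY0 => ?_⟩
  have h1 := hmin (Y.map W.subtype) (Submodule.map_subtype_le _ _) (by
    rintro _ ⟨y, hy, rfl⟩
    exact ⟨restr s W hW y, hY y hy, rfl⟩) (by
    intro h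
    apply hY0
    rw [Submodule.eq_bot_iff]
    intro y hy
    have h2 : (y : U) ∈ Y.map W.subtype := ⟨y, hy, rfl⟩
    rw [h] at h2
    exact Subtype.ext ((Submodule.mem_bot F).1 h2))
  rw [eq_top_iff]
  rintro ⟨w, hw⟩ -
  rw [← h1] at hw
  obtain ⟨y, hy, hyw⟩ := hw
  have : (⟨w, by rw [← h1]; exact ⟨y, hy, hyw⟩⟩ : W) = y := Subtype.ext hyw.symm
  rw [this]
  exact hy

theorem semisimple [FiniteDimensional F U] {s : U ≃ₗ[F] U} {N : ℕ} (hN : Odd N) (hs : s ^ N = 1) :
    Module.End.IsSemisimple (s : Module.End F U) := by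
  apply Module.End.isSemisimple_of_squarefree_aeval_eq_zero (p := X ^ N - 1)
  · apply Polynomial.Separable.squarefree
    rw [X_pow_sub_one_separable_iff]
    intro h
    have := (CharP.cast_eq_zero_iff F 2 N).1 h
    exact (Nat.not_even_iff_odd.2 hN) (even_iff_two_dvd.2 this)
  · rw [map_sub, map_pow, aeval_X, map_one, ← coe_pow, hs]
    exact sub_self _

/-- **A cyclic vector.** -/
theorem exists_cyclic_of_odd [Fintype F] [FiniteDimensional F U] {s : U ≃ₗ[F] U} {m N : ℕ} (hm : Odd m) (hm1 : 1 < m)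
    (hN : Odd N) (hsN : s ^ N = 1) (hdim : finrank F U = 2 * m)
    (hdiv : ∀ Y : Submodule F U, (∀ y ∈ Y, s y ∈ Y) → m ∣ finrank F Y)
    (hs : s ^ (Fintype.card F ^ m - 1) = 1) {β : U →ₗ[F] U →ₗ[F] F} (hnd : ∀ v, (∀ u, β u v = 0) → v = 0)
    (hβ : ∀ u v, β (s u) (s v) = β u v) : Cyc s := by
  classical
  have hm0 : 0 < m := by omega
  -- invariant subspaces of dimension `m` are minimal
  have hminm : ∀ W : Submodule F U, finrank F W = m → ∀ Y ≤ W, (∀ y ∈ Y, s y ∈ Y) → Y ≠ ⊥ → Y = W := by
    intro W hW Y hY hYs hY0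
    apply Submodule.eq_of_le_of_finrank_le hY
    rw [hW]
    apply Nat.le_of_dvd _ (hdiv Y hYs)
    rw [Nat.pos_iff_ne_zero]
    intro h
    exact hY0 (Submodule.finrank_eq_zero.1 h)
  -- a minimal invariant subspace
  obtain ⟨W₁, hW₁s, hW₁d⟩ : ∃ W : Submodule F U, (∀ w ∈ W, s w ∈ W) ∧ finrank F W = m := by
    by_contra hcon
    push Not at hcon
    have hirr : Irr s := by
      refine ⟨Module.nontrivial_of_finrank_pos (R := F) (by rw [hdim]; omega), fun W hW hW0 => ?_⟩
      have h1 := hdiv W hW
      have h2 := hcon W hW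
      have h3 : finrank F W ≤ 2 * m := by rw [← hdim]; exact Submodule.finrank_le W
      have h4 : finrank F W ≠ 0 := fun h => hW0 (Submodule.finrank_eq_zero.1 h)
      obtain ⟨k, hk⟩ := h1
      apply Submodule.eq_top_of_finrank_eq
      rw [hdim, hk]
      have h5 : k = 2 := by
        have h6 : k ≤ 2 := by
          by_contra h7
          have : m * 3 ≤ m * k := Nat.mul_le_mul_left m (by omega)
          omega
        have h7 : k ≠ 0 := by rintro rfl; omega
        have h8 : k ≠ 1 := by rintro rfl; omega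
        omega
      rw [h5, mul_comm]
    have h1 := hirr.card_le hm0 hs
    omega
  have hW₁0 : W₁ ≠ ⊥ := by
    rintro rfl
    rw [finrank_bot] at hW₁d
    omega
  obtain ⟨W₂, hW₂s, hcompl⟩ := (Module.End.isSemisimple_iff.1 (semisimple hN hsN)) W₁ hW₁s
  have hW₂d : finrank F W₂ = m := by
    have := Submodule.finrank_add_eq_of_isCompl hcompl
    omega
  have hW₂s' : ∀ w ∈ W₂, s w ∈ W₂ := hW₂s
  have hW₂0 : W₂ ≠ ⊥ := by
    rintro rfl
    rw [finrank_bot] at hW₂d
    omega
  -- the polynomial
  have hirr₁ := irr_restr hW₁s hW₁0 (hminm W₁ hW₁d)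
  have hdom := hirr₁.domain
  set s₁ := restr s W₁ hW₁s with hs₁
  let x : AA s₁ := ⟨_, self_mem⟩
  have hfin : FiniteDimensional F (AA s₁) := inferInstance
  set f := minpoly F x with hf
  have hint : IsIntegral F x := Algebra.IsIntegral.isIntegral x
  have hfirr : Irreducible f := minpoly.irreducible hint
  have hfm : f.Monic := minpoly.monic hint
  have hax : ∀ g : F[X], ((aeval x g : AA s₁) : Module.End F W₁) = aeval (s₁ : Module.End F W₁) g := by
    intro g
    exact (Polynomial.aeval_algHom_apply (AA s₁).val x g).symm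
  have hf1 : ∀ w ∈ W₁, aeval (s : Module.End F U) f w = 0 := by
    intro w hw
    have h0 : aeval x f = 0 := minpoly.aeval F x
    have h1 := hax f
    rw [h0] at h1
    have h2 := aeval_restr hW₁s f ⟨w, hw⟩
    rw [← h2, ← hs₁, ← h1]
    rfl
  have hmin : ∀ g : F[X], (∀ w ∈ W₁, aeval (s : Module.End F U) g w = 0) → f ∣ g := by
    intro g hg
    apply minpoly.dvd
    apply Subtype.ext
    rw [hax]
    apply LinearMap.ext
    intro w
    apply Subtype.ext
    rw [hs₁, aeval_restr, hg _ w.2]
    rfl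
  have hpoly : ∀ g : F[X], aeval (s : Module.End F U) g ∈ AA s := fun g => aeval_mem_adjoin_singleton F _
  by_cases hcase : ∀ w ∈ W₂, aeval (s : Module.End F U) f w = 0
  · exfalso
    have hf0 : aeval (s : Module.End F U) f = 0 := by
      apply LinearMap.ext
      intro v
      have hv : v ∈ W₁ ⊔ W₂ := by rw [hcompl.sup_eq_top]; trivial
      obtain ⟨w₁, hw₁, w₂, hw₂, rfl⟩ := Submodule.mem_sup.1 hv
      rw [map_add, hf1 _ hw₁, hcase _ hw₂, add_zero]
      rfl
    have hadj : ∀ g : F[X], ∀ u v, β (aeval (s : Module.End F U) g u) v =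
        β u (aeval ((s⁻¹ : U ≃ₗ[F] U) : Module.End F U) g v) := by
      intro g u v
      have hpw : ∀ (i : ℕ) u v, β ((s ^ i) u) v = β u (((s⁻¹) ^ i) v) := by
        intro i
        induction i with
        | zero => intro u v; rfl
        | succ i ih =>
          intro u v
          rw [pow_succ, pow_succ']
          show β ((s ^ i) (s u)) v = β u (s.symm (((s⁻¹) ^ i) v))
          rw [ih, ← hβ u, LinearEquiv.apply_symm_apply]
      rw [aeval_eq_sum_range, aeval_eq_sum_range, LinearMap.sum_apply, LinearMap.sum_apply, map_sum, map_sum,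
        LinearMap.sum_apply]
      refine Finset.sum_congr rfl fun i _ => ?_
      rw [LinearMap.smul_apply, LinearMap.smul_apply, map_smul, map_smul, LinearMap.smul_apply, ← coe_pow, ← coe_pow]
      congr 1
      exact hpw i u v
    have hf0' : aeval ((s⁻¹ : U ≃ₗ[F] U) : Module.End F U) f = 0 := by
      apply LinearMap.ext
      intro v
      apply hnd
      intro u
      rw [← hadj, hf0, LinearMap.zero_apply, map_zero, LinearMap.zero_apply]
    -- the degree of `f` is odd
    have hdeg : Odd f.natDegree := by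
      obtain ⟨w, hw⟩ := @exists_ne _ hirr₁.1 (0 : W₁)
      let ev : degreeLT F f.natDegree →ₗ[F] W₁ :=
        (LinearMap.applyₗ w) ∘ₗ (aeval (s₁ : Module.End F W₁)).toLinearMap ∘ₗ (degreeLT F f.natDegree).subtype
      have hevv : ∀ g : degreeLT F f.natDegree, ev g = aeval (s₁ : Module.End F W₁) (g : F[X]) w := fun g => rfl
      have hf0 : f ≠ 0 := hfm.ne_zero
      have hev : Function.Bijective ev := by
        constructor
        · rw [injective_iff_map_eq_zero]
          rintro ⟨g, hg⟩ hgw
          apply Subtype.ext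
          show g = 0
          rw [hevv] at hgw
          have h1 : aeval (s₁ : Module.End F W₁) g = 0 := by
            by_contra h0
            exact hw (hirr₁.injective (aeval_mem_adjoin_singleton F _) h0 hgw)
          have h2 : f ∣ g := by
            apply minpoly.dvd
            apply Subtype.ext
            rw [hax, h1]
            rfl
          rw [mem_degreeLT] at hg
          by_contra hg0
          have h3 := Polynomial.degree_le_of_dvd h2 hg0
          rw [degree_eq_natDegree hf0] at h3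
          exact absurd hg (not_lt.2 h3)
        · intro u
          obtain ⟨a, ha, hau⟩ := hirr₁.cyc_of hw u
          have ha' : a ∈ (aeval (R := F) (s₁ : Module.End F W₁)).range := by
            rw [← Algebra.adjoin_singleton_eq_range_aeval]
            exact ha
          obtain ⟨g, hg⟩ := ha'
          have hg' : aeval (s₁ : Module.End F W₁) g = a := hg
          subst hg'
          refine ⟨⟨g %ₘ f, ?_⟩, ?_⟩
          · rw [mem_degreeLT, ← degree_eq_natDegree hf0]
            exact degree_modByMonic_lt g hfm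
          · rw [hevv, ← hau]
            show aeval (s₁ : Module.End F W₁) (g %ₘ f) w = aeval (s₁ : Module.End F W₁) g w
            have h3 : aeval (s₁ : Module.End F W₁) f = 0 := by
              rw [← hax]
              have h0 : aeval x f = 0 := minpoly.aeval F x
              rw [h0]
              rfl
            conv_rhs => rw [← modByMonic_add_div g f]
            rw [map_add, map_mul, h3, zero_mul, add_zero]
      have h1 := (LinearEquiv.ofBijective ev hev).finrank_eq
      rw [(degreeLTEquiv F f.natDegree).finrank_eq, Module.finrank_fin_fun, hW₁d] at h1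
      rw [h1]
      exact hm
    have h1 := eval_one_eq_zero (F := F) (R := Module.End F U) (x := (s : Module.End F U))
      (y := ((s⁻¹ : U ≃ₗ[F] U) : Module.End F U)) (LinearMap.ext fun v => s.apply_symm_apply v)
      (LinearMap.ext fun v => s.symm_apply_apply v) hfm hdeg (fun g hg => hmin g fun w _ => by rw [hg]; rfl) hf0'
    -- `f = X - 1`
    have h2 : (X - C 1 : F[X]) ∣ f := dvd_iff_isRoot.2 h1
    have h3 : f ∣ (X - C 1 : F[X]) := by
      obtain ⟨g, hg⟩ := h2
      rcases hfirr.isUnit_or_isUnit hg with h4 | h4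
      · exact absurd h4 (Polynomial.not_isUnit_X_sub_C 1)
      · obtain ⟨g', hg'⟩ := h4.exists_right_inv
        exact ⟨g', by rw [hg, mul_assoc, hg', mul_one]⟩
    obtain ⟨w, hw⟩ := @exists_ne _ hirr₁.1 (0 : W₁)
    have h4 : s (w : U) = w := by
      obtain ⟨g, hg⟩ := h3
      have h5 : aeval (s : Module.End F U) (X - C 1 : F[X]) (w : U) = 0 := by
        rw [hg, mul_comm, map_mul]
        show aeval (s : Module.End F U) g (aeval (s : Module.End F U) f (w : U)) = 0
        rw [hf1 _ w.2, map_zero]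
      rw [map_sub, aeval_X, aeval_C, map_one] at h5
      exact sub_eq_zero.1 h5
    have h5 : (Submodule.span F {(w : U)}) ≠ ⊥ := by
      rw [Ne, Submodule.span_singleton_eq_bot]
      exact fun h => hw (Subtype.ext h)
    have h6 := hdiv (Submodule.span F {(w : U)}) (by
      intro y hy
      obtain ⟨c, rfl⟩ := Submodule.mem_span_singleton.1 hy
      rw [map_smul, h4]
      exact Submodule.smul_mem _ _ (Submodule.mem_span_singleton_self _))
    rw [finrank_span_singleton (fun h => hw (Subtype.ext h))] at h6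
    have := Nat.le_of_dvd one_pos h6
    omega
  · push Not at hcase
    obtain ⟨w₂, hw₂, hfw₂⟩ := hcase
    obtain ⟨w₁, hw₁⟩ := @exists_ne _ hirr₁.1 (0 : W₁)
    refine ⟨(w₁ : U) + w₂, fun u => mem_cycSub.1 ?_⟩
    set Y := cycSub s ((w₁ : U) + w₂) with hY
    have hYs : ∀ y ∈ Y, s y ∈ Y := cycSub_inv _
    have hle : ∀ W : Submodule F U, (∀ w ∈ W, s w ∈ W) → finrank F W = m → (∃ y, y ≠ 0 ∧ y ∈ Y ∧ y ∈ W) → W ≤ Y := by
      rintro W hWs hWd ⟨y, hy0, hyY, hyW⟩
      have h1 := hminm W hWd (Y ⊓ W) inf_le_right (fun z hz => ⟨hYs z hz.1, hWs z hz.2⟩) (by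
        intro h
        apply hy0
        have : y ∈ Y ⊓ W := ⟨hyY, hyW⟩
        rw [h] at this
        exact (Submodule.mem_bot F).1 this)
      rw [← h1]
      exact inf_le_left
    have h1 : W₂ ≤ Y := by
      refine hle W₂ hW₂s' hW₂d ⟨aeval (s : Module.End F U) f w₂, hfw₂, ?_, alg_inv hW₂s' (hpoly f) _ hw₂⟩
      refine mem_cycSub.2 ⟨_, hpoly f, ?_⟩
      rw [map_add, hf1 _ w₁.2, zero_add]
    have h2 : (w₁ : U) ∈ Y := by
      have h3 := Y.sub_mem (self_mem_cycSub (s := s) ((w₁ : U) + w₂)) (h1 hw₂)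
      rwa [add_sub_cancel_right] at h3
    have h3 : W₁ ≤ Y := hle W₁ hW₁s hW₁d ⟨w₁, fun h => hw₁ (Subtype.ext h), h2, w₁.2⟩
    have hu : u ∈ W₁ ⊔ W₂ := by rw [hcompl.sup_eq_top]; trivial
    exact sup_le h3 h1 hu

end Cfsg.Agent.H375.Odd
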