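import Mathlib
import Cfsg.Agent.H375.Odd.Dec
import Cfsg.Agent.H375.Odd.Gauss

/-!
# Element orders that do not occur in symplectic and orthogonal groups in characteristic two (helper375)
-/

set_option autoImplicit false
set_option linter.unusedVariables false
set_option linter.unusedSectionVars false

namespace Cfsg.Agent.H375.Odd

open Module Finset

variable {F : Type*} [Field F] {V : Type*} [AddCommGroup V] [Module F V]
variable [Fintype F] [CharP F 2] [FiniteDimensional F V] {β : V →ₗ[F] V →ₗ[F] F}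

/-- `l ^ (a + 1)` is a torus order of degree `e` for `q`. -/
structure Zs (q l a e : ℕ) : Prop where
  hl : l.Prime
  hl2 : l ≠ 2
  he : 2 ≤ e
  hq : ∀ m, l ^ (a + 1) ∣ q ^ m - 1 ↔ e ∣ m

theorem Zs.tor {l a e : ℕ} (h : Zs (Fintype.card F) l a e) {s : V ≃ₗ[F] V} (hs : orderOf s = l ^ (a + 1)) :
    Tor s l a e := ⟨h.hl, h.hl2, hs, h.he, h.hq⟩

theorem exists_parts {y : V ≃ₗ[F] V} {p M : ℕ} (hp : p.Prime) (hM : 0 < M) (hy : orderOf y = p * M) :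
    ∃ b k : ℕ, orderOf (y ^ k) = p ^ (b + 1) ∧ ¬ p ^ (b + 1) ∣ M ∧ k * p ^ b = M := by
  obtain ⟨b, M', hM', hMM⟩ := Nat.exists_eq_pow_mul_and_not_dvd hM.ne' p hp.ne_one
  have hM'0 : 0 < M' := Nat.pos_of_ne_zero (by rintro rfl; exact hM' (dvd_zero _))
  refine ⟨b, M', ?_, ?_, by rw [hMM, mul_comm]⟩
  · rw [orderOf_pow_of_dvd hM'0.ne' (by rw [hy, hMM]; exact Dvd.intro_left (p * p ^ b) (by ring)), hy, hMM]
    have : p * (p ^ b * M') = p ^ (b + 1) * M' := by ring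
    rw [this, Nat.mul_div_cancel _ hM'0]
  · intro h
    rw [hMM, pow_succ] at h
    exact hM' (Nat.dvd_of_mul_dvd_mul_left (pow_pos hp.pos b) h)

/-- The general non-existence lemma. -/
theorem ne_core (h : Alt β) {l a e : ℕ} (hz : Zs (Fintype.card F) l a e) {M p : ℕ} (hM : 0 < M)
    (hNM : l ^ (a + 1) ∣ M) (hp : p.Prime) (hp2 : p ≠ 2) {y : V ≃ₗ[F] V} (hyβ : y ∈ Isom β) (hy : orderOf y = p * M)
    (htriv : ∀ s : V ≃ₗ[F] V, Tor s l a e → s ∈ Isom β → ∀ g ∈ Isom β, (∀ v, g (s v) = s (g v)) →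
      ∀ w ∈ bW (s ^ l ^ a), (g ^ M) w = w) :
    ∃ (s : V ≃ₗ[F] V) (z : V ≃ₗ[F] V) (b : ℕ), s ∈ Subgroup.zpowers y ∧ z ∈ Subgroup.zpowers y ∧ Tor s l a e ∧
      z ^ p = 1 ∧ ¬ p ^ (b + 1) ∣ M ∧ p ^ (b + 1) ∣ Fintype.card F ^ finrank F (bW z) - 1 ∧ Even (finrank F (bW z)) ∧
      0 < finrank F (bW z) ∧ bW z ≤ bV (s ^ l ^ a) := by
  obtain ⟨N', hN'⟩ := hNM
  have hlN := pow_pos hz.hl.pos (a + 1)
  have hN'0 : 0 < N' := Nat.pos_of_ne_zero (by rintro rfl; omega)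
  set s := y ^ (p * N') with hs
  have hso : orderOf s = l ^ (a + 1) := by
    have h1 : p * M = p * N' * l ^ (a + 1) := by rw [hN']; ring
    rw [hs, orderOf_pow_of_dvd (Nat.mul_pos hp.pos hN'0).ne' (by rw [hy, h1]; exact dvd_mul_right _ _), hy, h1,
      Nat.mul_div_cancel_left _ (Nat.mul_pos hp.pos hN'0)]
  have hT : Tor s l a e := hz.tor hso
  have hsβ : s ∈ Isom β := (Isom β).pow_mem hyβ _
  obtain ⟨b, k, hx, hb, hk⟩ := exists_parts hp hM hy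
  have hxs : ∀ v, (y ^ k) (s v) = s ((y ^ k) v) := by
    intro v
    show (y ^ k * y ^ (p * N')) v = (y ^ (p * N') * y ^ k) v
    rw [← pow_add, ← pow_add, add_comm]
  have hyM : (y ^ k) ^ p ^ b = y ^ M := by rw [← pow_mul, hk]
  obtain ⟨h1, h2, h3, h4⟩ := core h hT hsβ hp hp2 hx ((Isom β).pow_mem hyβ _) hxs (by
    intro w hw
    rw [hyM]
    exact htriv s hT hsβ y hyβ (fun v => by
      show (y * y ^ (p * N')) v = (y ^ (p * N') * y) v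
      rw [← pow_succ, ← pow_succ']) w hw)
  rw [hyM] at h1 h2 h3 h4
  refine ⟨s, y ^ M, b, Subgroup.mem_zpowers_iff.2 ⟨(p * N' : ℕ), zpow_natCast _ _⟩,
    Subgroup.mem_zpowers_iff.2 ⟨(M : ℕ), zpow_natCast _ _⟩, hT, ?_, hb, h1, h2, h3, h4⟩
  rw [← pow_mul, mul_comm, ← hy, pow_orderOf_eq_one]

theorem ne_odd (h : Alt β) {l a m : ℕ} (hz : Zs (Fintype.card F) l a m) (hm : Odd m) (hdim : finrank F V < 4 * m)
    {p : ℕ} (hp : p.Prime) (hp2 : p ≠ 2) {y : V ≃ₗ[F] V} (hyβ : y ∈ Isom β)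
    (hy : orderOf y = p * (Fintype.card F ^ m - 1)) :
    ∃ (s : V ≃ₗ[F] V) (z : V ≃ₗ[F] V) (b : ℕ), s ∈ Subgroup.zpowers y ∧ z ∈ Subgroup.zpowers y ∧ Tor s l a m ∧
      z ^ p = 1 ∧ ¬ p ^ (b + 1) ∣ Fintype.card F ^ m - 1 ∧ p ^ (b + 1) ∣ Fintype.card F ^ finrank F (bW z) - 1 ∧
      Even (finrank F (bW z)) ∧ 0 < finrank F (bW z) ∧ bW z ≤ bV (s ^ l ^ a) ∧
      finrank F (bV (s ^ l ^ a)) + 2 * m = finrank F V := by
  have hQ : 1 < Fintype.card F ^ m := Nat.one_lt_pow (by have := hz.he; omega) Fintype.one_lt_card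
  obtain ⟨s, z, b, h1, h2, h3, h4, h5, h6, h7, h8, h9⟩ := ne_core h hz (by omega) ((hz.hq m).2 dvd_rfl) hp hp2 hyβ hy
    (fun s hs hsβ g hg hgs w hw => (odd_case h hs hsβ hm hdim).2.2 g hg hgs w hw)
  refine ⟨s, z, b, h1, h2, h3, h4, h5, h6, h7, h8, h9, ?_⟩
  have hsβ : s ∈ Isom β := by
    obtain ⟨k, hk⟩ := Subgroup.mem_zpowers_iff.1 h1
    rw [← hk]
    exact (Isom β).zpow_mem hyβ k
  have h10 := (odd_case h h3 hsβ hm hdim).1
  have h11 := finrank_bW_add (F := F) (s ^ l ^ a)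
  omega

theorem ne_even (h : Alt β) {l a j : ℕ} (hz : Zs (Fintype.card F) l a (2 * j)) (hj : 2 ≤ j) (hdim : finrank F V < 4 * j)
    (hdim2 : 2 * j ≤ finrank F V) (hN : l ^ (a + 1) ∣ Fintype.card F ^ j + 1)
    {p : ℕ} (hp : p.Prime) (hp2 : p ≠ 2) {y : V ≃ₗ[F] V} (hyβ : y ∈ Isom β)
    (hy : orderOf y = p * (Fintype.card F ^ j + 1)) :
    ∃ (s : V ≃ₗ[F] V) (z : V ≃ₗ[F] V) (b : ℕ), s ∈ Subgroup.zpowers y ∧ z ∈ Subgroup.zpowers y ∧ Tor s l a (2 * j) ∧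
      z ^ p = 1 ∧ ¬ p ^ (b + 1) ∣ Fintype.card F ^ j + 1 ∧ p ^ (b + 1) ∣ Fintype.card F ^ finrank F (bW z) - 1 ∧
      Even (finrank F (bW z)) ∧ 0 < finrank F (bW z) ∧ bW z ≤ bV (s ^ l ^ a) ∧
      finrank F (bV (s ^ l ^ a)) + 2 * j = finrank F V := by
  obtain ⟨s, z, b, h1, h2, h3, h4, h5, h6, h7, h8, h9⟩ := ne_core h hz (by omega) hN hp hp2 hyβ hy
    (fun s hs hsβ g hg hgs w hw => (even_case h hs hsβ hj hdim).2.2.2 g hg hgs w hw)
  refine ⟨s, z, b, h1, h2, h3, h4, h5, h6, h7, h8, h9, ?_⟩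
  have hsβ : s ∈ Isom β := by
    obtain ⟨k, hk⟩ := Subgroup.mem_zpowers_iff.1 h1
    rw [← hk]
    exact (Isom β).zpow_mem hyβ k
  have h10 := (even_case h h3 hsβ hj hdim).1
  have h11 := finrank_bW_add (F := F) (s ^ l ^ a)
  omega

theorem Zs.dvd_add_one {q l a j : ℕ} (hz : Zs q l a (2 * j)) (hq : 0 < q) (hj : 0 < j) : l ^ (a + 1) ∣ q ^ j + 1 := by
  have h1 : l ^ (a + 1) ∣ q ^ (2 * j) - 1 := (hz.hq _).2 dvd_rfl
  have hQ : 1 ≤ q ^ j := Nat.one_le_pow _ _ hq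
  have h2 : q ^ (2 * j) - 1 = (q ^ j - 1) * (q ^ j + 1) := by
    rw [mul_comm 2 j, pow_mul]
    obtain ⟨k, hk⟩ := Nat.exists_eq_add_of_le hQ
    rw [hk]
    have : (1 + k) ^ 2 = k * (1 + k + 1) + 1 := by ring
    rw [this, Nat.add_sub_cancel, Nat.add_sub_cancel_left]
  rw [h2] at h1
  have h3 : ¬ l ∣ q ^ j - 1 ∨ ¬ l ∣ q ^ j + 1 := by
    by_contra hcon
    push Not at hcon
    have h4 := Nat.dvd_sub hcon.2 hcon.1
    have h5 : q ^ j + 1 - (q ^ j - 1) = 2 := by omega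
    rw [h5] at h4
    rcases (Nat.dvd_prime Nat.prime_two).1 h4 with h6 | h6
    · exact hz.hl.one_lt.ne' h6
    · exact hz.hl2 h6
  rcases h3 with h3 | h3
  · exact Nat.Coprime.dvd_of_dvd_mul_left (Nat.Coprime.pow_left _ ((hz.hl.coprime_iff_not_dvd).2 h3)) h1
  · exfalso
    have h4 := Nat.Coprime.dvd_of_dvd_mul_right (Nat.Coprime.pow_left _ ((hz.hl.coprime_iff_not_dvd).2 h3)) h1
    have h5 := Nat.le_of_dvd hj ((hz.hq _).1 h4)
    omega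

/-- If an odd prime power divides `q ^ 2 - 1`, it divides `q - 1` or `q + 1`. -/
theorem dvd_or {q p b : ℕ} (hq : 0 < q) (hp : p.Prime) (hp2 : p ≠ 2) (h : p ^ (b + 1) ∣ q ^ 2 - 1) :
    (p ^ (b + 1) ∣ q - 1 ∧ ¬ p ∣ q + 1) ∨ (p ^ (b + 1) ∣ q + 1 ∧ ¬ p ∣ q - 1) := by
  have h2 : q ^ 2 - 1 = (q - 1) * (q + 1) := by
    obtain ⟨k, hk⟩ := Nat.exists_eq_add_of_le hq
    have : (1 + k) ^ 2 = k * (1 + k + 1) + 1 := by ring
    have e : q = 1 + k := hk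
    rw [e, this, Nat.add_sub_cancel, Nat.add_sub_cancel_left]
  rw [h2] at h
  have hpd : p ∣ p ^ (b + 1) := dvd_pow_self p (Nat.succ_ne_zero b)
  by_cases h3 : p ∣ q - 1
  · left
    have h4 : ¬ p ∣ q + 1 := by
      intro h5
      have h6 := Nat.dvd_sub h5 h3
      have h7 : q + 1 - (q - 1) = 2 := by omega
      rw [h7] at h6
      rcases (Nat.dvd_prime Nat.prime_two).1 h6 with h8 | h8
      · exact hp.one_lt.ne' h8
      · exact hp2 h8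
    exact ⟨Nat.Coprime.dvd_of_dvd_mul_right (Nat.Coprime.pow_left _ ((hp.coprime_iff_not_dvd).2 h4)) h, h4⟩
  · right
    exact ⟨Nat.Coprime.dvd_of_dvd_mul_left (Nat.Coprime.pow_left _ ((hp.coprime_iff_not_dvd).2 h3)) h, h3⟩

theorem sub_one_dvd (q m : ℕ) : q - 1 ∣ q ^ m - 1 := by
  have := Nat.sub_dvd_pow_sub_pow q 1 m
  rwa [one_pow] at this

theorem add_one_dvd (q m : ℕ) (hm : Odd m) : q + 1 ∣ q ^ m + 1 := by
  have := hm.nat_add_dvd_pow_add_pow q 1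
  rwa [one_pow] at this

/-! ### The statements -/

/-- `dim V = 2 m`, `m` odd: no element of order `p (q ^ m - 1)`. -/
theorem ne_A (h : Alt β) {l a m : ℕ} (hz : Zs (Fintype.card F) l a m) (hm : Odd m) (hdim : finrank F V = 2 * m)
    {p : ℕ} (hp : p.Prime) (hp2 : p ≠ 2) {y : V ≃ₗ[F] V} (hyβ : y ∈ Isom β) :
    orderOf y ≠ p * (Fintype.card F ^ m - 1) := by
  intro hy
  have hm2 := hz.he
  obtain ⟨s, z, b, h1, h2, h3, h4, h5, h6, h7, h8, h9, h10⟩ := ne_odd h hz hm (by omega) hp hp2 hyβ hy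
  have := Submodule.finrank_mono h9
  omega

/-- `dim V = 2 m + 2`, `m` odd. -/
theorem ne_B (h : Alt β) {l a m : ℕ} (hz : Zs (Fintype.card F) l a m) (hm : Odd m) (hdim : finrank F V = 2 * m + 2)
    {p : ℕ} (hp : p.Prime) (hp2 : p ≠ 2) {y : V ≃ₗ[F] V} (hyβ : y ∈ Isom β)
    (hy : orderOf y = p * (Fintype.card F ^ m - 1)) : 
    p ∣ Fintype.card F + 1 ∧ ∃ (s : V ≃ₗ[F] V) (z : V ≃ₗ[F] V), s ∈ Subgroup.zpowers y ∧ z ∈ Subgroup.zpowers y ∧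
      Tor s l a m ∧ z ^ p = 1 ∧ bW z = bV (s ^ l ^ a) ∧ finrank F (bW z) = 2 := by
  have hm2 := hz.he
  obtain ⟨s, z, b, h1, h2, h3, h4, h5, h6, h7, h8, h9, h10⟩ := ne_odd h hz hm (by
    rcases hm with ⟨k, hk⟩; omega) hp hp2 hyβ hy
  have h11 := Submodule.finrank_mono h9
  have h12 : finrank F (bW z) = 2 := by obtain ⟨k, hk⟩ := h7; omega
  rw [h12] at h6
  refine ⟨?_, s, z, h1, h2, h3, h4, Submodule.eq_of_le_of_finrank_le h9 (by omega), h12⟩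
  rcases dvd_or Fintype.card_pos hp hp2 h6 with ⟨h13, -⟩ | ⟨h13, -⟩
  · exact absurd (h13.trans (sub_one_dvd _ _)) h5
  · exact (dvd_pow_self p (Nat.succ_ne_zero b)).trans h13

/-- `dim V = 2 m + 4`, `m` odd: `p` does not divide `q - 1`. -/
theorem ne_C (h : Alt β) {l a m : ℕ} (hz : Zs (Fintype.card F) l a m) (hm : Odd m) (hdim : finrank F V = 2 * m + 4)
    {p : ℕ} (hp : p.Prime) (hp2 : p ≠ 2) {y : V ≃ₗ[F] V} (hyβ : y ∈ Isom β)
    (hy : orderOf y = p * (Fintype.card F ^ m - 1)) : ¬ p ∣ Fintype.card F - 1 := by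
  intro hpq
  have hm2 := hz.he
  obtain ⟨s, z, b, h1, h2, h3, h4, h5, h6, h7, h8, h9, h10⟩ := ne_odd h hz hm (by
    rcases hm with ⟨k, hk⟩; omega) hp hp2 hyβ hy
  have h11 := Submodule.finrank_mono h9
  have h12 : finrank F (bW z) = 2 ∨ finrank F (bW z) = 4 := by obtain ⟨k, hk⟩ := h7; omega
  set q := Fintype.card F with hq
  have hq0 : 1 ≤ q := Fintype.card_pos
  have h13 : p ^ (b + 1) ∣ q ^ 4 - 1 := by
    rcases h12 with h12 | h12
    · rw [h12] at h6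
      refine h6.trans ?_
      have h14 : q ^ 4 - 1 = (q ^ 2) ^ 2 - 1 := by rw [← pow_mul]
      rw [h14]
      exact sub_one_dvd (q ^ 2) 2
    · rwa [h12] at h6
  have h14 : q ^ 4 - 1 = (q - 1) * ((q + 1) * (q ^ 2 + 1)) := by
    obtain ⟨k, hk⟩ := Nat.exists_eq_add_of_le hq0
    rw [hk]
    have : (1 + k) ^ 4 = k * ((1 + k + 1) * ((1 + k) ^ 2 + 1)) + 1 := by ring
    rw [this, Nat.add_sub_cancel, Nat.add_sub_cancel_left]
  rw [h14] at h13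
  have h15 : ¬ p ∣ (q + 1) * (q ^ 2 + 1) := by
    intro h16
    obtain ⟨k, hk⟩ := hpq
    have hqk : q = p * k + 1 := by omega
    have h17 : (q + 1) * (q ^ 2 + 1) = p * (k * ((q ^ 2 + 1) + 2 * (p * k + 2))) + 4 := by
      rw [hqk]; ring
    rw [h17] at h16
    have h18 : p ∣ 4 := (Nat.dvd_add_right (dvd_mul_right _ _)).1 h16
    have h19 : p ∣ 2 ^ 2 := h18
    exact hp2 ((Nat.prime_dvd_prime_iff_eq hp Nat.prime_two).1 (hp.dvd_of_dvd_pow h19))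
  have h16 := Nat.Coprime.dvd_of_dvd_mul_right (Nat.Coprime.pow_left (b + 1) ((hp.coprime_iff_not_dvd).2 h15)) h13
  exact h5 (h16.trans (sub_one_dvd _ _))

/-- `dim V = 2 j + 2`. -/
theorem ne_D (h : Alt β) {l a j : ℕ} (hz : Zs (Fintype.card F) l a (2 * j)) (hj : 2 ≤ j) (hdim : finrank F V = 2 * j + 2)
    {p : ℕ} (hp : p.Prime) (hp2 : p ≠ 2) {y : V ≃ₗ[F] V} (hyβ : y ∈ Isom β)
    (hy : orderOf y = p * (Fintype.card F ^ j + 1)) :
    (Odd j → p ∣ Fintype.card F - 1) ∧ ∃ (s : V ≃ₗ[F] V) (z : V ≃ₗ[F] V), s ∈ Subgroup.zpowers y ∧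
      z ∈ Subgroup.zpowers y ∧ Tor s l a (2 * j) ∧ z ^ p = 1 ∧ bW z = bV (s ^ l ^ a) ∧ finrank F (bW z) = 2 := by
  obtain ⟨s, z, b, h1, h2, h3, h4, h5, h6, h7, h8, h9, h10⟩ := ne_even h hz hj (by omega) (by omega)
    (hz.dvd_add_one Fintype.card_pos (by omega)) hp hp2 hyβ hy
  have h11 := Submodule.finrank_mono h9
  have h12 : finrank F (bW z) = 2 := by obtain ⟨k, hk⟩ := h7; omega
  rw [h12] at h6
  refine ⟨fun hjo => ?_, s, z, h1, h2, h3, h4, Submodule.eq_of_le_of_finrank_le h9 (by omega), h12⟩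
  rcases dvd_or Fintype.card_pos hp hp2 h6 with ⟨h13, -⟩ | ⟨h13, -⟩
  · exact (dvd_pow_self p (Nat.succ_ne_zero b)).trans h13
  · exact absurd (h13.trans (add_one_dvd _ _ hjo)) h5

/-- Order `p N` where `N = l ^ (a + 1)`, `dim V = 2 j`: `p` divides `q ^ j + 1`. -/
theorem ne_E (h : Alt β) {l a j : ℕ} (hz : Zs (Fintype.card F) l a (2 * j)) (hj : 2 ≤ j) (hdim : finrank F V = 2 * j)
    {p : ℕ} (hp : p.Prime) (hpl : p ≠ l) {y : V ≃ₗ[F] V} (hyβ : y ∈ Isom β)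
    (hy : orderOf y = p * l ^ (a + 1)) : p ∣ Fintype.card F ^ j + 1 := by
  have hlN := pow_pos hz.hl.pos (a + 1)
  set s := y ^ p with hs
  have hso : orderOf s = l ^ (a + 1) := by
    rw [hs, orderOf_pow_of_dvd hp.ne_zero (by rw [hy]; exact dvd_mul_right _ _), hy, Nat.mul_div_cancel_left _ hp.pos]
  have hT : Tor s l a (2 * j) := hz.tor hso
  have hsβ : s ∈ Isom β := (Isom β).pow_mem hyβ _
  obtain ⟨h1, -, -, h2⟩ := even_case h hT hsβ hj (by omega)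
  have h3 : bW (s ^ l ^ a) = ⊤ := Submodule.eq_top_of_finrank_eq (by omega)
  have h4 : y ^ (Fintype.card F ^ j + 1) = 1 := by
    apply LinearEquiv.ext
    intro v
    exact h2 y hyβ (fun v => by
      show (y * y ^ p) v = (y ^ p * y) v
      rw [← pow_succ, ← pow_succ']) v (by rw [h3]; trivial)
  have h5 := orderOf_dvd_of_pow_eq_one h4
  rw [hy] at h5
  exact (dvd_mul_right _ _).trans h5

/-- Order `p N` where `N = l ^ (a + 1)`, `dim V = 2 j + 2`. -/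
theorem ne_F (h : Alt β) {l a j : ℕ} (hz : Zs (Fintype.card F) l a (2 * j)) (hj : 2 ≤ j) (hdim : finrank F V = 2 * j + 2)
    {p : ℕ} (hp : p.Prime) (hp2 : p ≠ 2) (hpj : ¬ p ∣ Fintype.card F ^ j + 1) {y : V ≃ₗ[F] V} (hyβ : y ∈ Isom β)
    (hy : orderOf y = p * l ^ (a + 1)) :
    ∃ (s : V ≃ₗ[F] V) (z : V ≃ₗ[F] V), s ∈ Subgroup.zpowers y ∧
      z ∈ Subgroup.zpowers y ∧ Tor s l a (2 * j) ∧ z ^ p = 1 ∧ bW z = bV (s ^ l ^ a) ∧ finrank F (bW z) = 2 := by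
  have hlN := pow_pos hz.hl.pos (a + 1)
  set s := y ^ p with hs
  have hso : orderOf s = l ^ (a + 1) := by
    rw [hs, orderOf_pow_of_dvd hp.ne_zero (by rw [hy]; exact dvd_mul_right _ _), hy, Nat.mul_div_cancel_left _ hp.pos]
  have hT : Tor s l a (2 * j) := hz.tor hso
  have hsβ : s ∈ Isom β := (Isom β).pow_mem hyβ _
  set z := y ^ l ^ (a + 1) with hzz
  have hzo : orderOf z = p := by
    rw [hzz, orderOf_pow_of_dvd hlN.ne' (by rw [hy]; exact dvd_mul_left _ _), hy, Nat.mul_div_cancel _ hlN]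
  have hzβ : z ∈ Isom β := (Isom β).pow_mem hyβ _
  have hzs : ∀ v, z (s v) = s (z v) := fun v => by
    show (y ^ l ^ (a + 1) * y ^ p) v = (y ^ p * y ^ l ^ (a + 1)) v
    rw [← pow_add, ← pow_add, add_comm]
  obtain ⟨h1, -, -, h2⟩ := even_case h hT hsβ hj (by omega)
  have htriv : ∀ w ∈ bW (s ^ l ^ a), (z ^ p ^ 0) w = w := by
    intro w hw
    rw [pow_zero, pow_one]
    have h3 := h2 z hzβ hzs w hw
    have h4 : (z ^ p) w = w := by rw [← hzo, pow_orderOf_eq_one]; rfl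
    have h5 : (Fintype.card F ^ j + 1).Coprime p := ((hp.coprime_iff_not_dvd).2 hpj).symm
    have h6 := CovTwo.isPeriodicPt.2 h3
    have h7 := CovTwo.isPeriodicPt.2 h4
    have h8 := h6.gcd h7
    rw [h5] at h8
    have h9 := CovTwo.isPeriodicPt.1 h8
    rwa [pow_one] at h9
  obtain ⟨h3, h4, h5, h6⟩ := core h hT hsβ hp hp2 (b := 0) (by rw [hzo]; simp) hzβ hzs htriv
  rw [pow_zero, pow_one] at h3 h4 h5 h6
  have h7 := finrank_bW_add (F := F) (s ^ l ^ a)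
  have h8 := Submodule.finrank_mono h6
  have h9 : finrank F (bW z) = 2 := by obtain ⟨k, hk⟩ := h4; omega
  exact ⟨s, z, Subgroup.mem_zpowers_iff.2 ⟨(p : ℕ), zpow_natCast _ _⟩,
    Subgroup.mem_zpowers_iff.2 ⟨(l ^ (a + 1) : ℕ), zpow_natCast _ _⟩, hT, by rw [← hzo, pow_orderOf_eq_one],
    Submodule.eq_of_le_of_finrank_le h6 (by omega), h9⟩

end Cfsg.Agent.H375.Odd
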