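import Mathlib
import Cfsg.Agent.H375.Odd.NE

/-!
# Element orders that do not occur in orthogonal groups in characteristic two: the types (helper375)
-/

set_option autoImplicit false
set_option linter.unusedVariables false
set_option linter.unusedSectionVars false

namespace Cfsg.Agent.H375.Odd

open Module Finset

variable {F : Type*} [Field F] {V : Type*} [AddCommGroup V] [Module F V]

/-- The isometry group of a quadratic form. -/
def OQ (Q : V → F) : Subgroup (V ≃ₗ[F] V) where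
  carrier := {g | ∀ v, Q (g v) = Q v}
  mul_mem' := fun {g h} hg hh v => by
    show Q (g (h v)) = _
    rw [hg, hh]
  one_mem' := fun v => rfl
  inv_mem' := fun {g} hg v => by
    show Q (g.symm v) = _
    rw [← hg, LinearEquiv.apply_symm_apply]

theorem OQ_le {Q : V → F} {β : V →ₗ[F] V →ₗ[F] F} (h : QF Q β) : OQ Q ≤ Isom β := by
  intro g hg u v
  have h1 := h.add (g u) (g v)
  rw [← map_add, hg, hg, hg, h.add] at h1
  exact (add_left_cancel h1).symm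

theorem QF.alt [CharP F 2] {Q : V → F} {β : V →ₗ[F] V →ₗ[F] F} (h : QF Q β) (v : V) : β v v = 0 := by
  have h1 := h.add v v
  have h2 : v + v = (0 : F) • v := by
    rw [← CharTwo.add_self_eq_zero (1 : F), add_smul, one_smul]
  rw [h2, h.smul, zero_pow two_ne_zero, zero_mul] at h1
  have h3 := CharTwo.add_self_eq_zero (Q v)
  rw [h3, zero_add] at h1
  exact h1.symm

variable [Fintype F] [CharP F 2] [Fintype V] [FiniteDimensional F V] {β : V →ₗ[F] V →ₗ[F] F} {Q : V → F} {ψ : F → ℤ}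

theorem GS_bot (hψ : Psi ψ) (h : QF Q β) : GS ψ Q ⊥ = 1 := by
  classical
  rw [GS]
  have : univ.filter (fun v : V => v ∈ (⊥ : Submodule F V)) = {0} := by
    ext v
    simp
  rw [this, Finset.sum_singleton, h.zero, hψ.zero]

theorem GS_congr {W W' : Submodule F V} (h : W = W') : GS ψ Q W = GS ψ Q W' := by rw [h]

/-- The plane `bV (s ^ l ^ a)`. -/
theorem plane (hψ : Psi ψ) (hQ : QF Q β) (hβ : Alt β) {l a e : ℕ} {s z : V ≃ₗ[F] V} (hs : Tor s l a e)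
    (hsQ : s ∈ OQ Q) (h2 : finrank F (bV (s ^ l ^ a)) = 2) {G : ℤ} (hG : GS ψ Q ⊤ = G) :
    ∃ δ : ℤ, (δ = 1 ∨ δ = -1) ∧ GS ψ Q (bV (s ^ l ^ a)) = δ * Fintype.card F ∧
      (l : ℤ) ∣ G - δ * Fintype.card F := by
  have htQ : s ^ l ^ a ∈ OQ Q := (OQ Q).pow_mem hsQ _
  have hsq := GS_sq hψ hQ (bV (s ^ l ^ a)) (fun v hv huv =>
    nd_bV hβ (OQ_le hQ htQ) (hs.hl.odd_of_ne_two hs.hl2) hs.ht v hv (fun u hu => by
      rw [hβ.symm]
      exact huv u hu))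
  rw [h2] at hsq
  have h3 := GS_mod hψ (Q := Q) (x := s ^ l ^ a) htQ hs.hl hs.ht ⊤ (bV (s ^ l ^ a)) (fun _ _ => trivial) (fun w => by
    rw [mem_bV]; simp)
  rw [hG] at h3
  have hsq' : GS ψ Q (bV (s ^ l ^ a)) ^ 2 = (Fintype.card F : ℤ) ^ 2 := by
    rw [hsq]
  rcases sq_eq_sq_iff_eq_or_eq_neg.1 hsq' with h4 | h4
  · exact ⟨1, Or.inl rfl, by rw [h4, one_mul], by rw [one_mul]; rwa [h4] at h3⟩
  · exact ⟨-1, Or.inr rfl, by rw [h4]; ring, by
      have : (-1 : ℤ) * Fintype.card F = - Fintype.card F := by ring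
      rw [this]; rwa [h4] at h3⟩

theorem plane_fix (hψ : Psi ψ) (hQ : QF Q β) {W : Submodule F V} {z : V ≃ₗ[F] V} (hzQ : z ∈ OQ Q) {p : ℕ}
    (hp : p.Prime) (hp2 : p ≠ 2) (hzp : z ^ p = 1) (hW : bW z = W) : (p : ℤ) ∣ GS ψ Q W - 1 := by
  have h1 := GS_mod hψ (Q := Q) (x := z) hzQ hp hzp W ⊥ (fun w hw => by
    rw [← hW] at hw ⊢
    exact bW_inv (fun _ => rfl) w hw) (fun w => by
    rw [Submodule.mem_bot]
    constructor
    · rintro rfl
      exact ⟨W.zero_mem, map_zero _⟩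
    · rintro ⟨hw, hzw⟩
      rw [← hW] at hw
      exact disj (hp.odd_of_ne_two hp2) hzp hw hzw)
  rwa [GS_bot hψ hQ] at h1

theorem int_dvd_of_nat {l : ℕ} {q x : ℕ} (h : l ∣ x) : (l : ℤ) ∣ (x : ℤ) := Int.natCast_dvd_natCast.2 h

/-- The sign of the plane. -/
theorem sign_eq {l : ℕ} (hl : l.Prime) (hl2 : l ≠ 2) {q : ℕ} (hlq : ¬ l ∣ q) {ε δ : ℤ} (hε : ε = 1 ∨ ε = -1)
    (hδ : δ = 1 ∨ δ = -1) (h : (l : ℤ) ∣ ε * q - δ * q) : δ = ε := by
  have key : ∀ c : ℤ, (c = 2 ∨ c = -2) → ¬ (l : ℤ) ∣ c * q := by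
    intro c hc h1
    have hpl : Prime (l : ℤ) := Nat.prime_iff_prime_int.1 hl
    rcases hpl.dvd_or_dvd h1 with h2 | h2
    · have h3 : (l : ℤ) ∣ 2 := by
        rcases hc with rfl | rfl
        · exact h2
        · exact (dvd_neg).1 (by simpa using h2)
      have h4 : l ∣ 2 := by exact_mod_cast h3
      exact hl2 ((Nat.prime_dvd_prime_iff_eq hl Nat.prime_two).1 h4)
    · exact hlq (by exact_mod_cast h2)
  rcases hε with rfl | rfl <;> rcases hδ with rfl | rfl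
  · rfl
  · exact absurd h (by
      have : (1 : ℤ) * q - -1 * q = 2 * q := by ring
      rw [this]; exact key 2 (Or.inl rfl))
  · exact absurd h (by
      have : (-1 : ℤ) * q - 1 * q = -2 * q := by ring
      rw [this]; exact key (-2) (Or.inr rfl))
  · rfl

theorem not_dvd_card {l : ℕ} (hl : l.Prime) (hl2 : l ≠ 2) : ¬ l ∣ Fintype.card F := by
  intro h
  obtain ⟨f, -, hf⟩ := exists_card (F := F)
  rw [hf] at h
  exact hl2 ((Nat.prime_dvd_prime_iff_eq hl Nat.prime_two).1 (hl.dvd_of_dvd_pow h))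

/-- `q ^ m ≡ 1` : the plane has the type of `V`. -/
theorem plane_odd (hψ : Psi ψ) (hQ : QF Q β) (hβ : Alt β) {l a m : ℕ} {s : V ≃ₗ[F] V} (hs : Tor s l a m)
    (hsQ : s ∈ OQ Q) (h2 : finrank F (bV (s ^ l ^ a)) = 2) {ε : ℤ} (hε : ε = 1 ∨ ε = -1)
    (hG : GS ψ Q ⊤ = ε * Fintype.card F ^ (m + 1)) : GS ψ Q (bV (s ^ l ^ a)) = ε * Fintype.card F := by
  obtain ⟨δ, hδ, h3, h4⟩ := plane hψ hQ hβ (z := s) hs hsQ h2 hG
  have h5 : (l : ℤ) ∣ (Fintype.card F : ℤ) ^ m - 1 := by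
    have h6 : l ∣ Fintype.card F ^ m - 1 := (dvd_pow_self l (Nat.succ_ne_zero a)).trans ((hs.hq m).2 dvd_rfl)
    have h7 : ((Fintype.card F ^ m - 1 : ℕ) : ℤ) = (Fintype.card F : ℤ) ^ m - 1 := by
      rw [Nat.cast_sub (Nat.one_le_pow _ _ Fintype.card_pos)]
      push_cast
      rfl
    rw [← h7]
    exact_mod_cast h6
  have h6 : (l : ℤ) ∣ ε * Fintype.card F - δ * Fintype.card F := by
    have : ε * Fintype.card F - δ * Fintype.card F = (ε * Fintype.card F ^ (m + 1) - δ * Fintype.card F) -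
        ((Fintype.card F : ℤ) ^ m - 1) * (ε * Fintype.card F) := by ring
    rw [this]
    exact dvd_sub h4 (h5.mul_right _)
  rw [h3, sign_eq hs.hl hs.hl2 (not_dvd_card hs.hl hs.hl2) hε hδ h6]

/-- `q ^ j ≡ -1` : the plane has the opposite type. -/
theorem plane_even (hψ : Psi ψ) (hQ : QF Q β) (hβ : Alt β) {l a j : ℕ} (hj : 0 < j) {s : V ≃ₗ[F] V}
    (hs : Tor s l a (2 * j))
    (hsQ : s ∈ OQ Q) (h2 : finrank F (bV (s ^ l ^ a)) = 2) {ε : ℤ} (hε : ε = 1 ∨ ε = -1)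
    (hG : GS ψ Q ⊤ = ε * Fintype.card F ^ (j + 1)) : GS ψ Q (bV (s ^ l ^ a)) = -ε * Fintype.card F := by
  obtain ⟨δ, hδ, h3, h4⟩ := plane hψ hQ hβ (z := s) hs hsQ h2 hG
  have h5 : (l : ℤ) ∣ (Fintype.card F : ℤ) ^ j + 1 := by
    have hz : Zs (Fintype.card F) l a (2 * j) := ⟨hs.hl, hs.hl2, hs.he, hs.hq⟩
    have h6 : l ∣ Fintype.card F ^ j + 1 :=
      (dvd_pow_self l (Nat.succ_ne_zero a)).trans (hz.dvd_add_one Fintype.card_pos hj)
    exact_mod_cast h6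
  have h6 : (l : ℤ) ∣ -ε * Fintype.card F - δ * Fintype.card F := by
    have : -ε * Fintype.card F - δ * Fintype.card F = (ε * Fintype.card F ^ (j + 1) - δ * Fintype.card F) -
        ((Fintype.card F : ℤ) ^ j + 1) * (ε * Fintype.card F) := by ring
    rw [this]
    exact dvd_sub h4 (h5.mul_right _)
  rw [h3, sign_eq hs.hl hs.hl2 (not_dvd_card hs.hl hs.hl2) (by rcases hε with rfl | rfl <;> simp) hδ h6]

theorem mem_of_zpowers {y z : V ≃ₗ[F] V} {H : Subgroup (V ≃ₗ[F] V)} (hy : y ∈ H) (hz : z ∈ Subgroup.zpowers y) : z ∈ H := by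
  have : Subgroup.zpowers y ≤ H := by rwa [Subgroup.zpowers_le]
  exact this hz

/-- Plus type, `dim V = 2 m + 2`, `m` odd: no element of order `p (q ^ m - 1)`. -/
theorem ne_BQ (hψ : Psi ψ) (hQ : QF Q β) (hβ : Alt β) {l a m : ℕ} (hz : Zs (Fintype.card F) l a m) (hm : Odd m)
    (hdim : finrank F V = 2 * m + 2) (hG : GS ψ Q ⊤ = Fintype.card F ^ (m + 1))
    {p : ℕ} (hp : p.Prime) (hp2 : p ≠ 2) {y : V ≃ₗ[F] V} (hyQ : y ∈ OQ Q) :
    orderOf y ≠ p * (Fintype.card F ^ m - 1) := by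
  intro hy
  obtain ⟨h1, s, z, h2, h3, h4, h5, h6, h7⟩ := ne_B hβ hz hm hdim hp hp2 (OQ_le hQ hyQ) hy
  have h8 := plane_odd hψ hQ hβ h4 (mem_of_zpowers hyQ h2) (by rw [← h6, h7]) (Or.inl rfl) (by rw [hG, one_mul])
  have h9 := plane_fix hψ hQ (mem_of_zpowers hyQ h3) hp hp2 h5 h6
  rw [h8, one_mul] at h9
  have h10 : (p : ℤ) ∣ Fintype.card F + 1 := by exact_mod_cast h1
  have h11 := dvd_sub h10 h9
  have h12 : (p : ℤ) ∣ 2 := by
    have : (Fintype.card F : ℤ) + 1 - (Fintype.card F - 1) = 2 := by ring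
    rwa [this] at h11
  have h13 : p ∣ 2 := by exact_mod_cast h12
  exact hp2 ((Nat.prime_dvd_prime_iff_eq hp Nat.prime_two).1 h13)

/-- Minus type, `dim V = 2 j + 2`: `p` divides `q - 1`. -/
theorem ne_DQ (hψ : Psi ψ) (hQ : QF Q β) (hβ : Alt β) {l a j : ℕ} (hz : Zs (Fintype.card F) l a (2 * j)) (hj : 2 ≤ j)
    (hdim : finrank F V = 2 * j + 2) (hG : GS ψ Q ⊤ = -Fintype.card F ^ (j + 1))
    {p : ℕ} (hp : p.Prime) (hp2 : p ≠ 2) {y : V ≃ₗ[F] V} (hyQ : y ∈ OQ Q)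
    (hy : orderOf y = p * (Fintype.card F ^ j + 1)) : p ∣ Fintype.card F - 1 := by
  obtain ⟨-, s, z, h2, h3, h4, h5, h6, h7⟩ := ne_D hβ hz hj hdim hp hp2 (OQ_le hQ hyQ) hy
  have h8 := plane_even hψ hQ hβ (by omega) h4 (mem_of_zpowers hyQ h2) (by rw [← h6, h7]) (Or.inr rfl)
    (by rw [hG]; ring)
  have h9 := plane_fix hψ hQ (mem_of_zpowers hyQ h3) hp hp2 h5 h6
  rw [h8, neg_neg, one_mul] at h9
  have h10 : ((Fintype.card F - 1 : ℕ) : ℤ) = (Fintype.card F : ℤ) - 1 := by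
    rw [Nat.cast_sub (Fintype.card_pos)]
    rfl
  rw [← h10] at h9
  exact_mod_cast h9

/-- Plus type, `dim V = 2 j + 2`: `p` divides `q + 1`. -/
theorem ne_FQ (hψ : Psi ψ) (hQ : QF Q β) (hβ : Alt β) {l a j : ℕ} (hz : Zs (Fintype.card F) l a (2 * j)) (hj : 2 ≤ j)
    (hdim : finrank F V = 2 * j + 2) (hG : GS ψ Q ⊤ = Fintype.card F ^ (j + 1))
    {p : ℕ} (hp : p.Prime) (hp2 : p ≠ 2) (hpj : ¬ p ∣ Fintype.card F ^ j + 1) {y : V ≃ₗ[F] V} (hyQ : y ∈ OQ Q)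
    (hy : orderOf y = p * l ^ (a + 1)) : p ∣ Fintype.card F + 1 := by
  obtain ⟨s, z, h2, h3, h4, h5, h6, h7⟩ := ne_F hβ hz hj hdim hp hp2 hpj (OQ_le hQ hyQ) hy
  have h8 := plane_even hψ hQ hβ (by omega) h4 (mem_of_zpowers hyQ h2) (by rw [← h6, h7]) (Or.inl rfl)
    (by rw [hG]; ring)
  have h9 := plane_fix hψ hQ (mem_of_zpowers hyQ h3) hp hp2 h5 h6
  rw [h8] at h9
  have h10 : (p : ℤ) ∣ Fintype.card F + 1 := by
    have : (Fintype.card F : ℤ) + 1 = -(-1 * Fintype.card F - 1) := by ring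
    rw [this]
    exact (dvd_neg).2 h9
  exact_mod_cast h10

end Cfsg.Agent.H375.Odd
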