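import Mathlib
import Cfsg.Agent.H375.Odd.NEQ

/-!
# Siegel transformations in characteristic two (helper375)
-/

set_option autoImplicit false
set_option linter.unusedVariables false
set_option linter.unusedSectionVars false

namespace Cfsg.Agent.H375.Odd

open Module Finset

variable {F : Type*} [Field F] {V : Type*} [AddCommGroup V] [Module F V] [CharP F 2] {β : V →ₗ[F] V →ₗ[F] F} {Q : V → F}

/-- The Siegel transformation. -/
def sg (β : V →ₗ[F] V →ₗ[F] F) (Q : V → F) (e w : V) : V →ₗ[F] V :=
  LinearMap.id + (β.flip e).smulRight w + (β.flip w).smulRight e + (Q w • β.flip e).smulRight e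

theorem sg_apply (e w v : V) : sg β Q e w v = v + β v e • w + β v w • e + (Q w * β v e) • e := rfl

theorem sg_mul (hQ : QF Q β) (hβ : Alt β) {e w w' : V} (hw : β e w = 0) (hw' : β e w' = 0) (v : V) :
    sg β Q e w (sg β Q e w' v) = sg β Q e (w + w') v := by
  have h1 : β w' e = 0 := by rw [hβ.symm]; exact hw'
  have h2 : β w e = 0 := by rw [hβ.symm]; exact hw
  have e1 : β (sg β Q e w' v) e = β v e := by
    rw [sg_apply]
    simp only [map_add, map_smul, LinearMap.add_apply, LinearMap.smul_apply, h1, hβ.alt e, smul_zero, add_zero]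
  have e2 : β (sg β Q e w' v) w = β v w + β v e * β w' w := by
    rw [sg_apply]
    simp only [map_add, map_smul, LinearMap.add_apply, LinearMap.smul_apply, hw, add_zero, smul_eq_mul, mul_zero]
  rw [sg_apply (w := w), e1, e2, sg_apply, sg_apply, hQ.add, map_add, hβ.symm w w']
  module

theorem sg_zero (hQ : QF Q β) (e v : V) : sg β Q e 0 v = v := by
  rw [sg_apply, hQ.zero, smul_zero, map_zero, zero_smul, zero_mul, zero_smul, add_zero, add_zero, add_zero]

theorem sg_iso (hQ : QF Q β) (hβ : Alt β) {e w : V} (he : Q e = 0) (hw : β e w = 0) (v : V) :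
    Q (sg β Q e w v) = Q v := by
  have h2 : β w e = 0 := by rw [hβ.symm]; exact hw
  rw [sg_apply, hQ.add, hQ.add, hQ.add, hQ.smul, hQ.smul, hQ.smul, he]
  simp only [map_add, map_smul, LinearMap.add_apply, LinearMap.smul_apply, h2, hβ.alt e, smul_zero, add_zero, smul_eq_mul,
    mul_zero]
  have h3 := CharTwo.add_self_eq_zero (R := F) (β v e ^ 2 * Q w + β v e * β v w)
  linear_combination h3

theorem sg_conj (c : V ≃ₗ[F] V) (hQ : ∀ v, Q (c v) = Q v) (hβ : ∀ u v, β (c u) (c v) = β u v) {e w : V} (he : c e = e) (v : V) :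
    c (sg β Q e w v) = sg β Q e (c w) (c v) := by
  have h1 : β (c v) e = β v e := by nth_rewrite 1 [← he]; exact hβ v e
  rw [sg_apply, sg_apply, h1, hβ, hQ, map_add, map_add, map_add, map_smul, map_smul, map_smul, he]

/-- The Siegel transformation as an equivalence. -/
noncomputable def sgE (hQ : QF Q β) (hβ : Alt β) {e : V} (w : LinearMap.ker (β e)) : V ≃ₗ[F] V :=
  LinearEquiv.ofLinear (sg β Q e w) (sg β Q e w)
    (LinearMap.ext fun v => by
      show sg β Q e w (sg β Q e w v) = v
      rw [sg_mul hQ hβ (LinearMap.mem_ker.1 w.2) (LinearMap.mem_ker.1 w.2)]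
      have : (w : V) + w = 0 := by
        have : (w : V) + w = (0 : F) • (w : V) := by
          rw [← CharTwo.add_self_eq_zero (1 : F), add_smul, one_smul]
        rw [this, zero_smul]
      rw [this, sg_zero hQ])
    (LinearMap.ext fun v => by
      show sg β Q e w (sg β Q e w v) = v
      rw [sg_mul hQ hβ (LinearMap.mem_ker.1 w.2) (LinearMap.mem_ker.1 w.2)]
      have : (w : V) + w = 0 := by
        have : (w : V) + w = (0 : F) • (w : V) := by
          rw [← CharTwo.add_self_eq_zero (1 : F), add_smul, one_smul]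
        rw [this, zero_smul]
      rw [this, sg_zero hQ])

theorem sgE_apply (hQ : QF Q β) (hβ : Alt β) {e : V} (w : LinearMap.ker (β e)) (v : V) :
    sgE hQ hβ w v = sg β Q e w v := rfl

theorem sgE_mul (hQ : QF Q β) (hβ : Alt β) {e : V} (w w' : LinearMap.ker (β e)) :
    sgE hQ hβ (w + w') = sgE hQ hβ w * sgE hQ hβ w' :=
  LinearEquiv.ext fun v => (sg_mul hQ hβ (LinearMap.mem_ker.1 w.2) (LinearMap.mem_ker.1 w'.2) v).symm

theorem sgE_mem (hQ : QF Q β) (hβ : Alt β) {e : V} (he : Q e = 0) (w : LinearMap.ker (β e)) : sgE hQ hβ w ∈ OQ Q :=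
  fun v => sg_iso hQ hβ he (LinearMap.mem_ker.1 w.2) v

/-- Injectivity on the complement. -/
theorem sg_inj (hQ : QF Q β) (hβ : Alt β) {e f w : V} (hef : β e f = 1) (he : β e w = 0) (hf : β f w = 0)
    (h : sg β Q e w f = f) : w = 0 := by
  rw [sg_apply, hf, zero_smul, add_zero, hβ.symm f e, hef, one_smul, mul_one, add_assoc] at h
  have h1 : w + Q w • e = 0 := by
    have h2 : f + (w + Q w • e) = f + 0 := by rw [h, add_zero]
    exact add_left_cancel h2
  have h2 : Q w = 0 := by
    have h3 : β (w + Q w • e) f = 0 := by rw [h1, map_zero, LinearMap.zero_apply]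
    rw [map_add, LinearMap.add_apply, map_smul, LinearMap.smul_apply, hef, hβ.symm w f, hf, zero_add, smul_eq_mul,
      mul_one] at h3
    exact h3
  rwa [h2, zero_smul, add_zero] at h1

end Cfsg.Agent.H375.Odd
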