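import Mathlib
import Cfsg.Agent.H375.Odd.Torus
import Cfsg.Agent.H375.CovTwo.Emb

/-!
# Frobenius groups in the stabilizer of a maximal singular subspace, characteristic two (helper375)
-/

set_option autoImplicit false
set_option linter.unusedVariables false
set_option linter.unusedSectionVars false

namespace Cfsg.Agent.H375.Odd

open Module Finset Polynomial Cfsg.Agent.H375.CovTwo

/-! ### Singer cycles -/

/-- **A Singer cycle of odd degree** acts fixed-point-freely on the square of the natural module. -/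
theorem exists_singer {F : Type*} [Field F] [Fintype F] [CharP F 2] {m : ℕ} (hm : Odd m) :
    ∃ g h : Matrix (Fin m) (Fin m) F, g * h = 1 ∧ h * g = 1 ∧ g ^ (Fintype.card F ^ m - 1) = 1 ∧
      ∀ i, 0 < i → i < Fintype.card F ^ m - 1 → ∀ A : Matrix (Fin m) (Fin m) F,
        g ^ i * A * (g ^ i).transpose = A → A = 0 := by
  classical
  have hm0 : m ≠ 0 := by rintro rfl; exact absurd hm (by decide)
  have : NeZero m := ⟨hm0⟩
  have : Fact (Nat.Prime 2) := ⟨Nat.prime_two⟩
  let K := FiniteField.Extension F 2 m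
  have hK : Module.finrank F K = m := FiniteField.finrank_extension F 2 m
  have hKc : Nat.card K = Fintype.card F ^ m := by
    rw [← Nat.card_eq_fintype_card]
    exact FiniteField.natCard_extension F 2 m
  let b : Basis (Fin m) F K := (Module.finBasis F K).reindex (finCongr hK)
  let L : K →ₐ[F] Matrix (Fin m) (Fin m) F := Algebra.leftMulMatrix b
  have hL : Function.Injective L := Algebra.leftMulMatrix_injective b
  have hq1 : 1 < Fintype.card F ^ m := Nat.one_lt_pow hm0 Fintype.one_lt_card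
  obtain ⟨κ, hκ1, hκ2⟩ := exists_unit_order (R := K) (n := Fintype.card F ^ m - 1) (by omega) (by rw [hKc])
  have hκ0 : κ ≠ 0 := by
    rintro rfl
    rw [zero_pow (by omega)] at hκ1
    exact zero_ne_one hκ1
  refine ⟨L κ, L κ⁻¹, by rw [← map_mul, mul_inv_cancel₀ hκ0, map_one], by rw [← map_mul, inv_mul_cancel₀ hκ0, map_one],
    by rw [← map_pow, hκ1, map_one], ?_⟩
  intro i hi0 hi A hA
  by_contra hA0
  rw [← map_pow] at hA
  set x := κ ^ i with hx
  have hx1 : x ≠ 1 := hκ2 i hi0 hi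
  have hx0 : x ≠ 0 := pow_ne_zero i hκ0
  have hxx : L x * L x⁻¹ = 1 := by rw [← map_mul, mul_inv_cancel₀ hx0, map_one]
  have hxx' : L x⁻¹ * L x = 1 := by rw [← map_mul, inv_mul_cancel₀ hx0, map_one]
  have h1 : L x * A = A * (L x⁻¹).transpose := by
    have h2 : (L x).transpose * (L x⁻¹).transpose = 1 := by
      rw [← Matrix.transpose_mul, hxx', Matrix.transpose_one]
    calc L x * A = L x * A * ((L x).transpose * (L x⁻¹).transpose) := by rw [h2, mul_one]
      _ = (L x * A * (L x).transpose) * (L x⁻¹).transpose := by simp only [mul_assoc]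
      _ = _ := by rw [hA]
  have h2 : ∀ k : ℕ, L x ^ k * A = A * ((L x⁻¹) ^ k).transpose := by
    intro k
    induction k with
    | zero => simp
    | succ k ih =>
      rw [pow_succ', mul_assoc, ih, ← mul_assoc, h1, mul_assoc, ← Matrix.transpose_mul, ← pow_succ]
  have h3 : ∀ f : F[X], L (aeval x f) * A = A * (L (aeval x⁻¹ f)).transpose := by
    intro f
    rw [← Polynomial.aeval_algHom_apply, ← Polynomial.aeval_algHom_apply, aeval_eq_sum_range, aeval_eq_sum_range,
      Finset.sum_mul, Matrix.transpose_sum, Finset.mul_sum]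
    refine Finset.sum_congr rfl fun k _ => ?_
    rw [Matrix.transpose_smul, Matrix.smul_mul, Matrix.mul_smul, h2]
  set f := minpoly F x with hf
  have hint : IsIntegral F x := Algebra.IsIntegral.isIntegral x
  have hfm : f.Monic := minpoly.monic hint
  have h4 := h3 f
  rw [minpoly.aeval, map_zero, zero_mul] at h4
  have h5 : aeval x⁻¹ f = 0 := by
    by_contra h6
    apply hA0
    have h7 : L (aeval x⁻¹ f) * L (aeval x⁻¹ f)⁻¹ = 1 := by rw [← map_mul, mul_inv_cancel₀ h6, map_one]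
    have h7' : (L (aeval x⁻¹ f)⁻¹) * L (aeval x⁻¹ f) = 1 := by rw [← map_mul, inv_mul_cancel₀ h6, map_one]
    have h8 : (L (aeval x⁻¹ f)).transpose * (L (aeval x⁻¹ f)⁻¹).transpose = 1 := by
      rw [← Matrix.transpose_mul, h7', Matrix.transpose_one]
    calc A = A * ((L (aeval x⁻¹ f)).transpose * (L (aeval x⁻¹ f)⁻¹).transpose) := by rw [h8, mul_one]
      _ = (A * (L (aeval x⁻¹ f)).transpose) * (L (aeval x⁻¹ f)⁻¹).transpose := by rw [mul_assoc]
      _ = 0 := by rw [← h4, zero_mul]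
  have hodd : Odd f.natDegree := by
    have h6 : f.natDegree ∣ m := hK ▸ minpoly.degree_dvd hint
    exact Odd.of_dvd_nat hm h6
  have h6 := eval_one_eq_zero (F := F) (R := K) (mul_inv_cancel₀ hx0) (inv_mul_cancel₀ hx0) hfm hodd
    (fun g hg => minpoly.dvd F x hg) h5
  have h7 : f = X - C 1 := by
    have h8 : (X - C 1 : F[X]) ∣ f := dvd_iff_isRoot.2 h6
    refine (Polynomial.eq_of_monic_of_associated (monic_X_sub_C 1) hfm ?_).symm
    exact (irreducible_X_sub_C 1).associated_of_dvd (minpoly.irreducible hint) h8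
  apply hx1
  have h8 := minpoly.aeval F x
  rw [← hf, h7, map_sub, aeval_X, aeval_C, map_one] at h8
  exact sub_eq_zero.1 h8

/-! ### The matrices -/

variable {F : Type*} [Field F] {m : ℕ}

/-- The Levi element. -/
def lv (g h : Matrix (Fin m) (Fin m) F) : Matrix (Fin m ⊕ Fin m) (Fin m ⊕ Fin m) F := Matrix.fromBlocks g 0 0 h.transpose

/-- The unipotent element. -/
def un (A : Matrix (Fin m) (Fin m) F) : Matrix (Fin m ⊕ Fin m) (Fin m ⊕ Fin m) F := Matrix.fromBlocks 1 A 0 1

theorem un_mul (A B : Matrix (Fin m) (Fin m) F) : un A * un B = un (A + B) := by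
  rw [un, un, un, Matrix.fromBlocks_multiply]
  congr 1 <;> simp [add_comm]

theorem un_zero : un (0 : Matrix (Fin m) (Fin m) F) = 1 := Matrix.fromBlocks_one

theorem un_inj {A B : Matrix (Fin m) (Fin m) F} (h : un A = un B) : A = B := (Matrix.fromBlocks_inj.1 h).2.1

theorem lv_mul (g h g' h' : Matrix (Fin m) (Fin m) F) : lv g h * lv g' h' = lv (g * g') (h' * h) := by
  rw [lv, lv, lv, Matrix.fromBlocks_multiply]
  congr 1 <;> simp [Matrix.transpose_mul]

theorem lv_one : lv (1 : Matrix (Fin m) (Fin m) F) 1 = 1 := by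
  rw [lv, Matrix.transpose_one, Matrix.fromBlocks_one]

theorem lv_pow (g h : Matrix (Fin m) (Fin m) F) (i : ℕ) : lv g h ^ i = lv (g ^ i) (h ^ i) := by
  induction i with
  | zero => simp [lv_one]
  | succ i ih => rw [pow_succ, ih, lv_mul, ← pow_succ, ← pow_succ']

/-- The split form. -/
def qp (m : ℕ) (F : Type*) [Field F] (x : Fin m ⊕ Fin m → F) : F := ∑ i : Fin m, x (.inl i) * x (.inr i)

theorem qp_eq (x : Fin m ⊕ Fin m → F) : qp m F x = (x ∘ Sum.inl) ⬝ᵥ (x ∘ Sum.inr) := rfl

theorem qp_lv {g h : Matrix (Fin m) (Fin m) F} (hgh : h * g = 1) (x : Fin m ⊕ Fin m → F) :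
    qp m F (Matrix.mulVec (lv g h) x) = qp m F x := by
  rw [qp_eq, qp_eq, lv, Matrix.fromBlocks_mulVec]
  simp only [Matrix.zero_mulVec, add_zero, zero_add, Sum.elim_comp_inl, Sum.elim_comp_inr]
  rw [Matrix.dotProduct_mulVec, Matrix.vecMul_transpose, Matrix.mulVec_mulVec, hgh, Matrix.one_mulVec]

theorem qp_un {A : Matrix (Fin m) (Fin m) F} (hA : ∀ x : Fin m → F, x ⬝ᵥ (Matrix.mulVec A x) = 0) (x : Fin m ⊕ Fin m → F) :
    qp m F (Matrix.mulVec (un A) x) = qp m F x := by
  rw [qp_eq, qp_eq, un, Matrix.fromBlocks_mulVec]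
  simp only [Matrix.zero_mulVec, zero_add, Matrix.one_mulVec, Sum.elim_comp_inl, Sum.elim_comp_inr]
  rw [add_dotProduct, dotProduct_comm (Matrix.mulVec A (x ∘ Sum.inr)), hA, add_zero]

variable {V : Type*} [AddCommGroup V] [Module F V] {β : V →ₗ[F] V →ₗ[F] F} {Q : V → F} {a b : Fin m → V}

theorem Q_sum_zero (hQ : QF Q β) {ι : Type*} (S : Finset ι) (x : ι → F) (v : ι → V) (h0 : ∀ i, Q (v i) = 0)
    (hv : ∀ i j, β (v i) (v j) = 0) : Q (∑ i ∈ S, x i • v i) = 0 := by
  classical
  induction S using Finset.induction_on with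
  | empty => rw [Finset.sum_empty, hQ.zero]
  | insert i S hi ih =>
    rw [Finset.sum_insert hi, hQ.add, ih, hQ.smul, h0, mul_zero, add_zero, zero_add, map_sum]
    apply Finset.sum_eq_zero
    intro j _
    rw [map_smul, map_smul, LinearMap.smul_apply, hv, smul_zero, smul_zero]

theorem Q_lc (hQ : QF Q β) (hfr : Fr β a b) (ha : ∀ i, Q (a i) = 0) (hb : ∀ i, Q (b i) = 0) (x : Fin m ⊕ Fin m → F) :
    Q (lc a b x) = qp m F x := by
  have h1 : lc a b x = ∑ i, x (.inl i) • a i + ∑ i, x (.inr i) • b i := by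
    show ∑ i, x i • (Sum.elim a b i : V) = _
    rw [Fintype.sum_sum_type]
    rfl
  have h2 : β (∑ i, x (.inl i) • a i) = ∑ i, x (.inl i) • β (a i) := by
    rw [map_sum]
    simp only [map_smul]
  rw [h1, hQ.add, Q_sum_zero hQ univ _ a ha hfr.haa, Q_sum_zero hQ univ _ b hb hfr.hbb, zero_add, zero_add, qp, h2,
    LinearMap.sum_apply]
  refine Finset.sum_congr rfl fun i _ => ?_
  rw [LinearMap.smul_apply, map_sum, Finset.sum_eq_single i]
  · rw [map_smul, hfr.hab, if_pos rfl, smul_eq_mul, smul_eq_mul, mul_one]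
  · intro j _ hj
    rw [map_smul, hfr.hab, if_neg (Ne.symm hj), smul_zero]
  · intro h
    exact absurd (mem_univ i) h

theorem Q_ex [CharP F 2] (hQ : QF Q β) (hfr : Fr β a b) (ha : ∀ i, Q (a i) = 0) (hb : ∀ i, Q (b i) = 0)
    {M : Matrix (Fin m ⊕ Fin m) (Fin m ⊕ Fin m) F} (hM : ∀ x, qp m F (Matrix.mulVec M x) = qp m F x) (v : V) :
    Q (ex β a b M v) = Q v := by
  set v' := v - lc a b (co β a b v) with hv'
  have hco : co β a b v' = 0 := by rw [hv', map_sub, co_lc hfr, sub_self]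
  have horth : ∀ y : Fin m ⊕ Fin m → F, β v' (lc a b y) = 0 := by
    intro y
    rw [hfr.symm, form_lc hfr, hco, Matrix.mulVec_zero, dotProduct_zero]
  have e1 : v = v' + lc a b (co β a b v) := by rw [hv']; abel
  have e2 : ex β a b M v = v' + lc a b (Matrix.mulVec M (co β a b v)) := by
    rw [ex_apply, hv', Matrix.sub_mulVec, Matrix.one_mulVec, map_sub]
    abel
  rw [e2, hQ.add, horth, add_zero, Q_lc hQ hfr ha hb, hM, ← Q_lc hQ hfr ha hb]
  conv_rhs => rw [e1, hQ.add, horth, add_zero]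

/-- The homomorphism on units. -/
noncomputable def exU (hfr : Fr β a b) : (Matrix (Fin m ⊕ Fin m) (Fin m ⊕ Fin m) F)ˣ →* (V ≃ₗ[F] V) :=
  (LinearMap.GeneralLinearGroup.generalLinearEquiv F V).toMonoidHom.comp (Units.map (exHom hfr))

theorem exU_apply (hfr : Fr β a b) (M : (Matrix (Fin m ⊕ Fin m) (Fin m ⊕ Fin m) F)ˣ) (v : V) :
    exU hfr M v = ex β a b (M : Matrix (Fin m ⊕ Fin m) (Fin m ⊕ Fin m) F) v := rfl

theorem exU_injective (hfr : Fr β a b) : Function.Injective (exU hfr) := by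
  rw [injective_iff_map_eq_one]
  intro A hA
  apply Units.ext
  apply ex_inj hfr
  intro v
  rw [← exU_apply hfr, hA]
  rfl

/-- **The Frobenius group `Λ²(q^m) : (q^m - 1)`, `m` odd.** -/
theorem frob_alpha [Fintype F] [CharP F 2] (hm : Odd m) (hm1 : 1 < m) (hQ : QF Q β) (hfr : Fr β a b)
    (ha : ∀ i, Q (a i) = 0) (hb : ∀ i, Q (b i) = 0) : Frob (OQ Q) (Fintype.card F ^ m - 1) := by
  classical
  obtain ⟨g, h, hgh, hhg, hg1, hg2⟩ := exists_singer (F := F) hm
  have hq1 : 1 < Fintype.card F ^ m := Nat.one_lt_pow (by omega) Fintype.one_lt_card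
  have htwo : ∀ A : Matrix (Fin m) (Fin m) F, A + A = 0 := by
    intro A
    ext i j
    exact CharTwo.add_self_eq_zero _
  -- units
  let cM : (Matrix (Fin m ⊕ Fin m) (Fin m ⊕ Fin m) F)ˣ := ⟨lv g h, lv h g, by rw [lv_mul, hgh, lv_one],
    by rw [lv_mul, hhg, lv_one]⟩
  let uM : Matrix (Fin m) (Fin m) F → (Matrix (Fin m ⊕ Fin m) (Fin m ⊕ Fin m) F)ˣ := fun A =>
    ⟨un A, un A, by rw [un_mul, htwo, un_zero], by rw [un_mul, htwo, un_zero]⟩
  have huM : ∀ A B, uM A * uM B = uM (A + B) := fun A B => Units.ext (un_mul A B)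
  have huM0 : uM 0 = 1 := Units.ext un_zero
  have huMi : ∀ A B, uM A = uM B → A = B := fun A B h => un_inj (congrArg Units.val h)
  have hcM : ∀ i : ℕ, ((cM ^ i : (Matrix (Fin m ⊕ Fin m) (Fin m ⊕ Fin m) F)ˣ) : Matrix _ _ F) = lv (g ^ i) (h ^ i) := by
    intro i
    rw [Units.val_pow_eq_pow_val]
    exact lv_pow g h i
  have hghi : ∀ i : ℕ, g ^ i * h ^ i = 1 := by
    intro i
    have hcomm : Commute g h := by show g * h = h * g; rw [hgh, hhg]
    rw [← hcomm.mul_pow, hgh, one_pow]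
  have hhgi : ∀ i : ℕ, h ^ i * g ^ i = 1 := by
    intro i
    have hcomm : Commute h g := by show h * g = g * h; rw [hgh, hhg]
    rw [← hcomm.mul_pow, hhg, one_pow]
  let AL : Set (Matrix (Fin m) (Fin m) F) := {A | ∀ x : Fin m → F, x ⬝ᵥ (Matrix.mulVec A x) = 0}
  let U : Subgroup (V ≃ₗ[F] V) :=
    { carrier := {u | ∃ A ∈ AL, u = exU hfr (uM A)}
      mul_mem' := by
        rintro _ _ ⟨A, hA, rfl⟩ ⟨B, hB, rfl⟩
        refine ⟨A + B, fun x => by rw [Matrix.add_mulVec, dotProduct_add, hA, hB, add_zero], ?_⟩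
        rw [← map_mul, huM]
      one_mem' := ⟨0, fun x => by rw [Matrix.zero_mulVec, dotProduct_zero], by rw [huM0, map_one]⟩
      inv_mem' := by
        rintro _ ⟨A, hA, rfl⟩
        refine ⟨A, hA, ?_⟩
        rw [← map_inv]
        congr 1 }
  refine ⟨exU hfr cM, U, ?_, ?_, ?_, ?_, ?_, ?_, ?_, ?_⟩
  · intro v
    exact Q_ex hQ hfr ha hb (qp_lv hhg) v
  · obtain ⟨k, hk0, hk⟩ := exists_card (F := F)
    rw [hk, ← pow_mul]
    have h1 : Even (2 ^ (k * m)) := (Nat.even_pow.2 ⟨even_two, (Nat.mul_pos hk0 (by omega)).ne'⟩)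
    exact Nat.Even.sub_odd Nat.one_le_two_pow h1 odd_one
  · rw [orderOf_injective _ (exU_injective hfr), orderOf_eq_iff (by omega)]
    refine ⟨?_, ?_⟩
    · apply Units.ext
      rw [hcM, hg1]
      have h1 : h ^ (Fintype.card F ^ m - 1) = 1 := by
        have := hghi (Fintype.card F ^ m - 1)
        rwa [hg1, one_mul] at this
      rw [h1, lv_one]
      rfl
    · intro i hi hi0 h1
      have h2 : g ^ i = 1 := by
        have h3 := congrArg Units.val h1
        rw [hcM, Units.val_one, ← lv_one] at h3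
        exact (Matrix.fromBlocks_inj.1 h3).1
      have h3 := hg2 i hi0 hi 1 (by rw [h2]; simp)
      have : Nonempty (Fin m) := ⟨⟨0, by omega⟩⟩
      exact one_ne_zero h3
  · rintro _ ⟨A, hA, rfl⟩ v
    exact Q_ex hQ hfr ha hb (qp_un hA) v
  · intro hbot
    let i₀ : Fin m := ⟨0, by omega⟩
    let i₁ : Fin m := ⟨1, hm1⟩
    let B : Matrix (Fin m) (Fin m) F := Matrix.single i₀ i₁ 1
    have hne : i₀ ≠ i₁ := by intro h; exact absurd (congrArg Fin.val h) (by norm_num [i₀, i₁])
    have hAL : B + B.transpose ∈ AL := by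
      intro x
      rw [Matrix.add_mulVec, dotProduct_add, Matrix.mulVec_transpose, dotProduct_comm x (Matrix.vecMul x B),
        ← Matrix.dotProduct_mulVec]
      exact CharTwo.add_self_eq_zero _
    have h1 : exU hfr (uM (B + B.transpose)) ∈ U := ⟨_, hAL, rfl⟩
    rw [hbot, Subgroup.mem_bot, ← map_one (exU hfr)] at h1
    have h2 := exU_injective hfr h1
    rw [← huM0] at h2
    have h3 := congrFun (congrFun (huMi _ _ h2) i₀) i₁
    have e1 : B i₀ i₁ = 1 := Matrix.single_apply_same _ _ _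
    have e2 : B i₁ i₀ = 0 := Matrix.single_apply_of_ne _ _ _ _ _ (by simp [hne])
    rw [Matrix.add_apply, Matrix.transpose_apply, e1, e2, add_zero] at h3
    exact one_ne_zero h3
  · rintro _ ⟨A, hA, rfl⟩
    rw [← map_mul, huM, htwo, huM0, map_one]
  · rintro _ ⟨A, hA, rfl⟩
    refine ⟨g * A * g.transpose, ?_, ?_⟩
    · intro x
      rw [← Matrix.mulVec_mulVec, ← Matrix.mulVec_mulVec, Matrix.dotProduct_mulVec, ← Matrix.mulVec_transpose]
      exact hA _
    · rw [← map_inv, ← map_mul, ← map_mul]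
      congr 1
      apply Units.ext
      show lv g h * un A * lv h g = un (g * A * g.transpose)
      rw [lv, lv, un, un, Matrix.fromBlocks_multiply, Matrix.fromBlocks_multiply]
      congr 1
      · simp [hgh]
      · simp
      · simp
      · simp only [Matrix.zero_mul, Matrix.mul_one, zero_add, Matrix.mul_zero]
        rw [← Matrix.transpose_mul, hgh, Matrix.transpose_one]
  · rintro i hi0 hi _ ⟨A, hA, rfl⟩ h1
    rw [← map_pow, ← map_mul, ← map_mul] at h1
    have h2 := congrArg Units.val (exU_injective hfr h1)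
    rw [Units.val_mul, Units.val_mul, hcM] at h2
    have h3 : lv (g ^ i) (h ^ i) * un A = un A * lv (g ^ i) (h ^ i) := h2
    rw [lv, un, Matrix.fromBlocks_multiply, Matrix.fromBlocks_multiply] at h3
    have h4 := (Matrix.fromBlocks_inj.1 h3).2.1
    simp only [Matrix.zero_mul, Matrix.mul_one, add_zero, Matrix.one_mul, Matrix.mul_zero, zero_add] at h4
    have h5 : (h ^ i).transpose * (g ^ i).transpose = 1 := by
      rw [← Matrix.transpose_mul, hghi, Matrix.transpose_one]
    have h6 : g ^ i * A * (g ^ i).transpose = A := by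
      rw [h4, mul_assoc, h5, mul_one]
    rw [hg2 i hi0 hi A h6, huM0, map_one]

end Cfsg.Agent.H375.Odd
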