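import Mathlib
import Cfsg.Agent.H375.Odd.Cov
import Cfsg.Agent.H375.Odd.NEQ
import Cfsg.Agent.H390.Lift
import Cfsg.Agent.H382.SpOm
import Cfsg.Agent.Sigma.Symp
import Cfsg.Agent.LieClassical.OrthFinite
import Cfsg.Agent.S0270

/-!
# The natural representations of `PSp_2n(q)`, `PΩ(Q)`, `q` even (helper375)
-/

set_option autoImplicit false
set_option linter.unusedVariables false
set_option linter.unusedSectionVars false

namespace Cfsg.Agent.H375.Odd

open Module Finset QuadraticMap Cfsg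
open Cfsg.Agent.LieClassical.OrthCount Cfsg.Agent.LieClassical.OmegaReindex Cfsg.Agent.LieClassical
open Cfsg.Agent.ClassicalGeometry

/-! ### Torus orders -/

theorem exists_zs {F : Type*} [Field F] [Fintype F] [CharP F 2] {e : ℕ} (he : 2 ≤ e)
    (h6 : ¬ (Fintype.card F = 2 ∧ e = 6)) : ∃ l, Zs (Fintype.card F) l 0 e := by
  obtain ⟨f, -, hcard⟩ := exists_card (F := F)
  have hq2 : 2 ≤ Fintype.card F := Fintype.one_lt_card
  have hf0 : f ≠ 0 := by rintro rfl; rw [pow_zero] at hcard; omega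
  have hqe : Even (Fintype.card F) := by
    rw [hcard]
    exact (Nat.even_pow.2 ⟨even_two, hf0⟩)
  obtain ⟨l, hl, h1, -, h3⟩ := Lib.Zsigmondy.exists_primitive (a := Fintype.card F) (n := e) hq2 he (by
    rintro - ⟨k, hk⟩
    rcases Nat.eq_zero_or_pos k with h0 | h0
    · rw [h0, pow_zero] at hk; omega
    · have : Even (2 ^ k) := (Nat.even_pow.2 ⟨even_two, h0.ne'⟩)
      rw [← hk] at this
      exact (Nat.not_even_iff_odd.2 hqe.add_one) this) h6
  refine ⟨l, hl, ?_, he, fun m => ?_⟩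
  · rintro rfl
    exact h3 hqe.two_dvd
  · rw [zero_add, pow_one]
    exact h1 m

/-! ### Symplectic groups -/

section Sp

variable {F : Type*} [Field F] {n : ℕ}

/-- Symplectic matrices as endomorphisms. -/
noncomputable def toE (n : ℕ) (F : Type*) [Field F] : Matrix.symplecticGroup (Fin n) F →* Module.End F (Fin n ⊕ Fin n → F) where
  toFun A := Matrix.toLin' A.1
  map_one' := Matrix.toLin'_one
  map_mul' A B := Matrix.toLin'_mul A.1 B.1

/-- Symplectic matrices as automorphisms. -/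
noncomputable def spL (n : ℕ) (F : Type*) [Field F] :
    Matrix.symplecticGroup (Fin n) F →* ((Fin n ⊕ Fin n → F) ≃ₗ[F] (Fin n ⊕ Fin n → F)) :=
  (LinearMap.GeneralLinearGroup.generalLinearEquiv F (Fin n ⊕ Fin n → F)).toMonoidHom.comp
    (MonoidHom.toHomUnits (toE n F))

theorem spL_apply (A : Matrix.symplecticGroup (Fin n) F) (v : Fin n ⊕ Fin n → F) : spL n F A v = Matrix.mulVec A.1 v := rfl

theorem spL_injective : Function.Injective (spL n F) := by
  intro A B h
  apply Subtype.ext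
  apply Matrix.toLin'.injective
  apply LinearMap.ext
  intro v
  exact LinearEquiv.congr_fun h v

variable [CharP F 2]

/-- The symplectic form. -/
noncomputable def bet (n : ℕ) (F : Type*) [Field F] : (Fin n ⊕ Fin n → F) →ₗ[F] (Fin n ⊕ Fin n → F) →ₗ[F] F :=
  polarBilin (quadPlus n F)

theorem bet_eq (u v : Fin n ⊕ Fin n → F) : bet n F u v = sympForm n F u v := by
  show polar (⇑(quadPlus n F)) u v = _
  rw [polar_quadPlus, SympBasic.sympForm_eq_sum]
  refine Finset.sum_congr rfl fun i _ => ?_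
  rw [CharTwo.sub_eq_add, mul_comm (v (Sum.inl i)), add_comm]

theorem qf_of {V : Type*} [AddCommGroup V] [Module F V] (Q : QuadraticForm F V) : QF (⇑Q) (polarBilin Q) where
  add u v := by
    show Q (u + v) = Q u + Q v + polar Q u v
    rw [polar]
    ring
  smul c v := by
    rw [QuadraticMap.map_smul, smul_eq_mul, pow_two]

theorem alt_of {V : Type*} [AddCommGroup V] [Module F V] {Q : QuadraticForm F V}
    (h : (polarBilin Q).Nondegenerate) : Alt (polarBilin Q) :=
  ⟨(qf_of Q).alt, fun u hu => h.1 u hu⟩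

theorem isom_bet (A : Matrix.symplecticGroup (Fin n) F) : spL n F A ∈ Isom (bet n F) := by
  intro u v
  rw [spL_apply, spL_apply, bet_eq, bet_eq]
  exact SympBasic.sympForm_mulVec A.2 u v

theorem exists_spL {g : (Fin n ⊕ Fin n → F) ≃ₗ[F] (Fin n ⊕ Fin n → F)} (hg : g ∈ Isom (bet n F)) :
    ∃ A, spL n F A = g := by
  have h1 : ∀ v, Matrix.mulVec (LinearMap.toMatrix' (g : (Fin n ⊕ Fin n → F) →ₗ[F] (Fin n ⊕ Fin n → F))) v = g v := by
    intro v
    rw [LinearMap.toMatrix'_mulVec]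
    rfl
  refine ⟨⟨LinearMap.toMatrix' (g : (Fin n ⊕ Fin n → F) →ₗ[F] (Fin n ⊕ Fin n → F)), ?_⟩, ?_⟩
  · rw [SympBasic.mem_symplecticGroup_iff]
    intro u v
    rw [h1, h1, ← bet_eq, ← bet_eq]
    exact hg u v
  · apply LinearEquiv.ext
    intro v
    rw [spL_apply]
    exact h1 v

/-- `PSp = Sp` in characteristic two. -/
noncomputable def pspE (hn : 1 ≤ n) : PSp n F ≃* Matrix.symplecticGroup (Fin n) F :=
  (QuotientGroup.quotientMulEquivOfEq (Sigma.Symp.center_eq_bot (F := F) hn)).trans QuotientGroup.quotientBot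

theorem rep_psp (hn : 1 ≤ n) : ∃ j, Rep (PSp n F) (Isom (bet n F)) j := by
  have hr : ((spL n F).comp (pspE (F := F) hn).toMonoidHom).range = Isom (bet n F) := by
    ext g
    constructor
    · rintro ⟨x, rfl⟩
      exact isom_bet _
    · intro hg
      obtain ⟨A, hA⟩ := exists_spL hg
      refine ⟨(pspE (F := F) hn).symm A, ?_⟩
      show spL n F (pspE (F := F) hn ((pspE (F := F) hn).symm A)) = g
      rw [MulEquiv.apply_symm_apply, hA]
  refine ⟨(spL n F).comp (pspE (F := F) hn).toMonoidHom, ?_, ?_, ?_, ?_⟩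
  · exact spL_injective.comp (pspE (F := F) hn).injective
  · intro x
    exact isom_bet _
  · intro g hg _
    rw [hr]
    exact hg
  · intro g hg x
    rw [hr]
    exact (Isom (bet n F)).mul_mem ((Isom (bet n F)).mul_mem hg (isom_bet _)) ((Isom (bet n F)).inv_mem hg)

end Sp

/-! ### Orthogonal groups -/

section Om

variable {F : Type*} [Field F] [Fintype F] [CharP F 2] {ι : Type} [Fintype ι] [DecidableEq ι] {Q : QuadraticForm F (ι → F)}

theorem data_two (hQ : (polarBilin Q).Nondegenerate) (h5 : 5 ≤ Fintype.card ι) (hiso : ∃ u : ι → F, u ≠ 0 ∧ Q u = 0) :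
    H390.Lift.Data Q :=
  ⟨hQ, by omega, hiso, Or.inl (index_omega_of_fin rfl (fun Q' hQ' => Cfsg.Agent.S0789.result (by omega) Q' hQ'
    (Or.inr (by omega))) Q hQ)⟩

theorem center_omega (h : H390.Lift.Data Q) : Subgroup.center (Cfsg.Omega F (⇑Q)) = ⊥ := by
  rw [eq_bot_iff]
  intro g hg
  rw [Subgroup.mem_bot]
  have h1 := (OmegaCenter.mem_center_omega_iff Q h.nd h.dim h.iso g).1 hg
  apply OmegaCenter.omega_ext
  rcases h1 with h1 | h1
  · rw [h1]
    rfl
  · rw [h1]
    have : (-1 : Matrix ι ι F) = 1 := by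
      ext i j
      rw [Matrix.neg_apply]
      exact CharTwo.neg_eq _
    rw [this]
    rfl

/-- `PΩ = Ω` in characteristic two. -/
noncomputable def pomE (h : H390.Lift.Data Q) : POmega F (⇑Q) ≃* Cfsg.Omega F (⇑Q) :=
  (QuotientGroup.quotientMulEquivOfEq (center_omega h)).trans QuotientGroup.quotientBot

/-- The isometry group as a group of linear automorphisms. -/
noncomputable def isoL (Q : QuadraticForm F (ι → F)) : Cfsg.isometryGroup F (⇑Q) →* ((ι → F) ≃ₗ[F] (ι → F)) :=
  (OG Q).subtype.comp (isometryGroupEquiv Q).toMonoidHom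

theorem isoL_injective : Function.Injective (isoL Q) :=
  (OG Q).subtype_injective.comp (isometryGroupEquiv Q).injective

theorem isoL_mem (X : Cfsg.isometryGroup F (⇑Q)) : isoL Q X ∈ OQ (⇑Q) := (isometryGroupEquiv Q X).2

theorem exists_isoL {g : (ι → F) ≃ₗ[F] (ι → F)} (hg : g ∈ OQ (⇑Q)) : ∃ X, isoL Q X = g :=
  ⟨(isometryGroupEquiv Q).symm ⟨g, hg⟩, congrArg Subtype.val ((isometryGroupEquiv Q).apply_symm_apply ⟨g, hg⟩)⟩

theorem rep_om (h : H390.Lift.Data Q) : ∃ j, Rep (POmega F (⇑Q)) (OQ (⇑Q)) j := by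
  have hr : ∀ X : Cfsg.isometryGroup F (⇑Q), X ∈ Cfsg.Omega F (⇑Q) →
      isoL Q X ∈ ((isoL Q).comp ((Cfsg.Omega F (⇑Q)).subtype.comp (pomE h).toMonoidHom)).range := by
    intro X hX
    refine ⟨(pomE h).symm ⟨X, hX⟩, ?_⟩
    show isoL Q (pomE h ((pomE h).symm ⟨X, hX⟩) : Cfsg.Omega F (⇑Q)) = _
    rw [MulEquiv.apply_symm_apply]
  refine ⟨(isoL Q).comp ((Cfsg.Omega F (⇑Q)).subtype.comp (pomE h).toMonoidHom), ?_, ?_, ?_, ?_⟩
  · exact isoL_injective.comp (Subtype.val_injective.comp (pomE h).injective)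
  · intro x
    exact isoL_mem _
  · intro g hg ho
    obtain ⟨X, rfl⟩ := exists_isoL hg
    apply hr
    rw [orderOf_injective _ isoL_injective] at ho
    exact H390.Lift.mem_of_odd _ h.idx ho (pow_orderOf_eq_one X)
  · intro g hg x
    obtain ⟨X, rfl⟩ := exists_isoL hg
    have e : isoL Q X * ((isoL Q).comp ((Cfsg.Omega F (⇑Q)).subtype.comp (pomE h).toMonoidHom)) x * (isoL Q X)⁻¹ =
        isoL Q (X * ((pomE h x : Cfsg.Omega F (⇑Q)) : Cfsg.isometryGroup F (⇑Q)) * X⁻¹) := by
      rw [map_mul, map_mul, map_inv]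
      rfl
    rw [e]
    apply hr
    exact (inferInstance : (Cfsg.Omega F (⇑Q)).Normal).conj_mem _ (pomE h x).2 X

theorem simple_om (hQ : (polarBilin Q).Nondegenerate) (h5 : 5 ≤ Fintype.card ι) : IsSimpleGroup (POmega F (⇑Q)) :=
  OrthFinite.isSimpleGroup_POmega (fun x hx => hQ.1 x hx) h5

/-- Elements of `PΩ(Q)` as isometries. -/
theorem exists_of_pom (h : H390.Lift.Data Q) (x : POmega F (⇑Q)) : ∃ s ∈ OQ (⇑Q), orderOf s = orderOf x := by
  obtain ⟨j, h1, h2, -⟩ := rep_om h
  exact ⟨j x, h2 x, orderOf_injective j h1 x⟩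

end Om

end Cfsg.Agent.H375.Odd
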